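import Cfsg.Agent.Spectra.DegreeTwin.Model

/-!
# The three degree divisibilities for `SU(3,3)`
-/

set_option autoImplicit false

namespace Cfsg.Agent.Spectra.DegreeTwin

open Cfsg.Agent.Spectra Cfsg.Lib.Chars

namespace Model

universe u

variable {G : Type u} [Group G] (M : Model G)

theorem invar_conj (g h : G) : invar (M.cd (h * g * h⁻¹)) = invar (M.cd g) := by
  have h1 : (M.cd (h * g * h⁻¹) = one9) ↔ (M.cd g = one9) := by
    simp only [← M.cd_one, M.cd_inj.eq_iff, conj_eq_one_iff]
  have hinv : M.rho h⁻¹ * M.rho h = 1 := by rw [← map_mul, inv_mul_cancel, map_one]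
  have hinv' : M.rho h * M.rho h⁻¹ = 1 := by rw [← map_mul, mul_inv_cancel, map_one]
  have h2 : (((M.cd (h * g * h⁻¹)).mul (M.cd (h * g * h⁻¹))).add (M.cd (h * g * h⁻¹))).add one9 = zero9
      ↔ (((M.cd g).mul (M.cd g)).add (M.cd g)).add one9 = zero9 := by
    have e : ∀ x : G, (((M.cd x).mul (M.cd x)).add (M.cd x)).add one9 =
        ofMat (M.rho x * M.rho x + M.rho x + 1) := fun x => by
      rw [ofMat_add, ofMat_add, ofMat_mul, ofMat_one]; rfl
    rw [e, e, ← ofMat_zero, ofMat_injective.eq_iff, ofMat_injective.eq_iff]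
    have key : M.rho (h * g * h⁻¹) * M.rho (h * g * h⁻¹) + M.rho (h * g * h⁻¹) + 1 =
        M.rho h * (M.rho g * M.rho g + M.rho g + 1) * M.rho h⁻¹ := by
      simp only [map_mul, mul_add, add_mul, mul_one, hinv']
      congr 2
      simp only [mul_assoc]
      rw [← mul_assoc (M.rho h⁻¹) (M.rho h), hinv, one_mul]
    rw [key]
    constructor
    · intro h0
      have := congrArg (fun X => M.rho h⁻¹ * X * M.rho h) h0
      simp only [mul_zero, zero_mul, mul_assoc, hinv, mul_one] at this
      rwa [← mul_assoc, hinv, one_mul] at this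
    · intro h0; rw [h0, mul_zero, zero_mul]
  have h3 : ((M.cd (h * g * h⁻¹)).mul (M.cd (h * g * h⁻¹))).mul
      ((M.cd (h * g * h⁻¹)).mul (M.cd (h * g * h⁻¹))) = one9 ↔
      ((M.cd g).mul (M.cd g)).mul ((M.cd g).mul (M.cd g)) = one9 := by
    simp only [← M.cd_mul, ← M.cd_one, M.cd_inj.eq_iff]
    rw [show h * g * h⁻¹ * (h * g * h⁻¹) * (h * g * h⁻¹ * (h * g * h⁻¹)) =
      h * (g * g * (g * g)) * h⁻¹ by group, conj_eq_one_iff]
  have h4 : (M.cd (h * g * h⁻¹)).trace = (M.cd g).trace := by
    simp only [cd, ← trace_ofMat, map_mul]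
    rw [Matrix.trace_mul_comm, ← mul_assoc, hinv, one_mul]
  simp only [← M9.eqb_iff, ← Bool.eq_iff_iff] at h1 h2 h3
  simp only [invar, h1, h2, h3, h4]

/-- A class function read from a table of values on invariants. -/
noncomputable def tableFn (val : List ℤ) (g : G) : ℂ := ((val.getD (invar (M.cd g)) 0 : ℤ) : ℂ)

theorem tableFn_classFunction (val : List ℤ) : Cfsg.IsClassFunction G (M.tableFn val) := fun g h => by
  simp only [tableFn, M.invar_conj]

theorem tableFn_ne_zero (val : List ℤ) (h : val.getD 19 0 ≠ 0) : M.tableFn val ≠ 0 := fun e => by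
  have := congrFun e 1
  simp only [tableFn, invar, M.cd_one, (M9.eqb_iff _ _).mpr rfl, if_true, Pi.zero_apply,
    Int.cast_eq_zero] at this
  exact h this

theorem class_sum [Fintype G] [DecidableRel (IsConj : G → G → Prop)] {n : ℕ} {K : List M9}
    {next : ℕ → List ℕ} {par : List (ℕ × ℕ)} (hK : classCheck n K next par = true) (hn : 0 < n)
    {val : List ℤ} {l : ℤ} (he : eigCheck K val l = true) {z : G} (hz : M.cd z = at9 K 0) :
    Nat.card {x : G // IsConj z x} = n ∧
      ∀ g, ∑ x ∈ Finset.univ.filter (fun x => IsConj z x), M.tableFn val (x * g) =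
        (l : ℂ) * M.tableFn val g := by
  classical
  obtain ⟨hcls, hex⟩ := M.class_eq hK hn hz
  simp only [classCheck, Bool.and_eq_true] at hK
  have hlen : K.length = n := by simpa using hK.1
  choose k hk using hex
  have hkinj : Function.Injective (fun i : Fin n => k i i.2) := by
    intro i j hij
    have h := of_allBelow hK.2 i i.2
    simp only [Bool.and_eq_true] at h
    have d := of_allBelow h.1.2 j j.2
    have e : at9 K i = at9 K j := by rw [← hk i i.2, ← hk j j.2]; exact congrArg M.cd hij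
    simp only [Bool.or_eq_true, Bool.not_eq_true', beq_iff_eq, (M9.eqb_iff _ _).mpr e] at d
    exact Fin.ext (d.resolve_left (by simp)).symm
  have hset : Finset.univ.filter (fun x => IsConj z x) =
      Finset.univ.image (fun i : Fin n => k i i.2) := by
    ext x
    simp only [Finset.mem_filter, Finset.mem_univ, true_and, Finset.mem_image, hcls]
    exact ⟨fun ⟨i, hi, hx⟩ => ⟨⟨i, hi⟩, M.cd_inj ((hk i hi).trans hx.symm)⟩,
      fun ⟨i, hi⟩ => ⟨i, i.2, hi ▸ hk i i.2⟩⟩
  refine ⟨?_, fun g => ?_⟩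
  · rw [Nat.card_eq_fintype_card, Fintype.card_subtype, hset,
      Finset.card_image_of_injective _ hkinj, Finset.card_univ, Fintype.card_fin]
  obtain ⟨r, hr, x, hx, hc⟩ := M.exists_rep g
  obtain ⟨w, rfl⟩ := isConj_iff.mp hc
  have hshift : ∀ y, M.tableFn val (w * y * w⁻¹) = M.tableFn val y := fun y =>
    M.tableFn_classFunction val y w
  rw [hshift]
  have hre : ∑ y ∈ Finset.univ.filter (fun y => IsConj z y), M.tableFn val (y * (w * x * w⁻¹)) =
      ∑ y ∈ Finset.univ.filter (fun y => IsConj z y), M.tableFn val (y * x) := by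
    refine Finset.sum_equiv (MulAut.conj w⁻¹).toEquiv (fun y => ?_) (fun y _ => ?_)
    · simp only [Finset.mem_filter, Finset.mem_univ, true_and, MulEquiv.toEquiv_eq_coe,
        MulEquiv.coe_toEquiv, MulAut.conj_apply]
      exact ⟨fun H => H.trans (isConj_iff.mpr ⟨w⁻¹, rfl⟩),
        fun H => H.trans (isConj_iff.mpr ⟨w, by group⟩)⟩
    · simp only [MulEquiv.toEquiv_eq_coe, MulEquiv.coe_toEquiv, MulAut.conj_apply, inv_inv]
      rw [← hshift (w⁻¹ * y * w * x)]
      congr 1
      group
  rw [hre, hset, Finset.sum_image fun a _ b _ h => hkinj h]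
  have he' := of_allBelow he r hr
  simp only [beq_iff_eq] at he'
  have hKl : K = List.ofFn (fun i : Fin n => at9 K i) := by
    apply List.ext_getElem (by simp [hlen])
    intro i h1 h2
    simp [at9, List.getElem?_eq_getElem h1]
  rw [hKl, List.map_ofFn, List.sum_ofFn] at he'
  have hc' := congrArg (fun a : ℤ => (a : ℂ)) he'
  simp only [Int.cast_sum, Int.cast_mul, Function.comp_apply] at hc'
  refine Eq.trans (Finset.sum_congr rfl fun i _ => ?_) (hc'.trans ?_)
  · simp only [tableFn, M.cd_mul, hk, hx]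
  · simp only [tableFn, hx]

theorem degree_of_central [Finite G] (χ : Cfsg.IrrCharacter G) {z : G} {h : ℕ} (hh : h ≠ 0) {l : ℤ}
    (hcard : Nat.card {x : G // IsConj z x} = h)
    (e : (Nat.card {x : G // IsConj z x} : ℂ) * (χ : G → ℂ) z = (l : ℂ) * (χ : G → ℂ) 1) :
    ∃ m : ℤ, (h : ℤ) * m = l * (Cfsg.charDegree (χ : G → ℂ) : ℤ) := by
  have := Fintype.ofFinite G
  rw [hcard] at e
  exact exists_int_of_central_value χ z hh l e

include M in
theorem triangle : Triangle G := by
  classical
  have hfin : Finite G := Nat.finite_of_card_ne_zero (by rw [M.card]; norm_num)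
  have := Fintype.ofFinite G
  obtain ⟨t, ht⟩ := M.exists_of_unit (m := at9 cls56 0) (by
    have h := check56
    simp only [classCheck, Bool.and_eq_true] at h
    have := of_allBelow h.2 0 (by norm_num)
    simp only [Bool.and_eq_true] at this
    exact this.1.1.1)
  obtain ⟨s, hs⟩ := M.exists_of_unit (m := at9 cls63 0) (by
    have h := check63
    simp only [classCheck, Bool.and_eq_true] at h
    have := of_allBelow h.2 0 (by norm_num)
    simp only [Bool.and_eq_true] at this
    exact this.1.1.1)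
  obtain ⟨c63, e62⟩ := M.class_sum check63 (by norm_num) eig_six_two hs
  obtain ⟨c56, e63⟩ := M.class_sum check56 (by norm_num) eig_six_three ht
  obtain ⟨-, e21⟩ := M.class_sum check63 (by norm_num) eig_twentyOne hs
  obtain ⟨-, e28⟩ := M.class_sum check56 (by norm_num) eig_twentyEight ht
  refine ⟨M.card, ?_, ?_, ?_⟩
  · obtain ⟨χ, hχ⟩ := exists_irr_central_values ![s, t] ![((-21 : ℤ) : ℂ), ((-28 : ℤ) : ℂ)]
      (M.tableFn_classFunction valSix) (M.tableFn_ne_zero valSix (by decide))
      (fun i g => by fin_cases i; exacts [e62 g, e63 g])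
    obtain ⟨m, hm⟩ := degree_of_central χ (by norm_num) c63 (hχ 0)
    obtain ⟨m', hm'⟩ := degree_of_central χ (by norm_num) c56 (hχ 1)
    exact ⟨_, ⟨χ, rfl⟩, by omega⟩
  · obtain ⟨χ, hχ⟩ := exists_irr_central_values (fun _ : Unit => t) (fun _ => ((2 : ℤ) : ℂ))
      (M.tableFn_classFunction valTwentyEight) (M.tableFn_ne_zero valTwentyEight (by decide))
      (fun _ g => e28 g)
    obtain ⟨m, hm⟩ := degree_of_central χ (by norm_num) c56 (hχ ())
    exact ⟨_, ⟨χ, rfl⟩, by omega⟩
  · obtain ⟨χ, hχ⟩ := exists_irr_central_values (fun _ : Unit => s) (fun _ => ((15 : ℤ) : ℂ))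
      (M.tableFn_classFunction valTwentyOne) (M.tableFn_ne_zero valTwentyOne (by decide))
      (fun _ g => e21 g)
    obtain ⟨m, hm⟩ := degree_of_central χ (by norm_num) c63 (hχ ())
    exact ⟨_, ⟨χ, rfl⟩, by omega⟩

end Model

end Cfsg.Agent.Spectra.DegreeTwin
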