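import Mathlib
import Cfsg.Agent.Chars.ClassEigen

/-!
# Degree graphs complete on the primes `2, 3, 7` in order 6048
-/

set_option autoImplicit false

namespace Cfsg.Agent.Spectra.DegreeTwin

/-- The data of a group of order 6048 whose degree graph is the triangle on `2, 3, 7`. -/
def Triangle (G : Type*) [Group G] : Prop :=
  Nat.card G = 6048 ∧ (∃ d ∈ Cfsg.charDegrees G, 6 ∣ d) ∧
    (∃ d ∈ Cfsg.charDegrees G, 14 ∣ d) ∧ (∃ d ∈ Cfsg.charDegrees G, 21 ∣ d)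

theorem prime_dvd_6048 {p : ℕ} (hp : p.Prime) (h : p ∣ 6048) : p = 2 ∨ p = 3 ∨ p = 7 := by
  have h' : p ∣ 2 ^ 5 * 3 ^ 3 * 7 := by norm_num; exact h
  rcases hp.dvd_mul.mp h' with h1 | h1
  · rcases hp.dvd_mul.mp h1 with h2 | h2
    · exact Or.inl ((Nat.prime_dvd_prime_iff_eq hp Nat.prime_two).mp (hp.dvd_of_dvd_pow h2))
    · exact Or.inr (Or.inl ((Nat.prime_dvd_prime_iff_eq hp Nat.prime_three).mp (hp.dvd_of_dvd_pow h2)))
  · exact Or.inr (Or.inr ((Nat.prime_dvd_prime_iff_eq hp (by norm_num)).mp h1))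

universe u

theorem degreePrimes_eq {G : Type u} [Group G] [Finite G] (h : Triangle G) :
    Cfsg.degreePrimes G = {2, 3, 7} := by
  obtain ⟨hc, ⟨a, ha, ha'⟩, ⟨b, hb, hb'⟩, ⟨c, hcc, hc'⟩⟩ := h
  ext p
  simp only [Set.mem_insert_iff, Set.mem_singleton_iff]
  constructor
  · rintro ⟨hp, d, hd, hpd⟩
    exact prime_dvd_6048 hp (hc ▸ hpd.trans (Cfsg.Lib.Chars.charDegree_dvd_card hd))
  · rintro (rfl | rfl | rfl)
    · exact ⟨Nat.prime_two, a, ha, dvd_trans (by norm_num) ha'⟩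
    · exact ⟨Nat.prime_three, a, ha, dvd_trans (by norm_num) ha'⟩
    · exact ⟨by norm_num, b, hb, dvd_trans (by norm_num) hb'⟩

theorem degreeGraph_adj {G : Type u} [Group G] [Finite G] (h : Triangle G) (p q : ℕ) :
    (Cfsg.degreeGraph G).Adj p q ↔ p ≠ q ∧ p ∈ ({2, 3, 7} : Set ℕ) ∧ q ∈ ({2, 3, 7} : Set ℕ) := by
  rw [← degreePrimes_eq h]
  constructor
  · rintro ⟨hne, hp, hq, d, hd, hpq⟩
    exact ⟨hne, ⟨hp, d, hd, dvd_trans (dvd_mul_right p q) hpq⟩,
      ⟨hq, d, hd, dvd_trans (dvd_mul_left q p) hpq⟩⟩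
  · rintro ⟨hne, hp, hq⟩
    refine ⟨hne, hp.1, hq.1, ?_⟩
    rw [degreePrimes_eq h] at hp hq
    obtain ⟨-, h6, h14, h21⟩ := h
    simp only [Set.mem_insert_iff, Set.mem_singleton_iff] at hp hq
    rcases hp with rfl | rfl | rfl <;> rcases hq with rfl | rfl | rfl <;>
      first | exact absurd rfl hne | exact h6 | exact h14 | exact h21

theorem same_graph {G : Type u} {H : Type*} [Group G] [Finite G] [Group H] [Finite H]
    (h : Triangle H) (h' : Triangle G) :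
    Cfsg.degreePrimes H = Cfsg.degreePrimes G ∧ Cfsg.degreeGraph H = Cfsg.degreeGraph G := by
  refine ⟨by rw [degreePrimes_eq h, degreePrimes_eq h'], ?_⟩
  ext p q
  rw [degreeGraph_adj h, degreeGraph_adj h']

end Cfsg.Agent.Spectra.DegreeTwin
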