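import Mathlib
import Cfsg.Agent.Chars.AbelianInertiaInduce
import Cfsg.Agent.Chars.Construct
import Cfsg.Agent.Spectra.DegreeTwin.Complete

/-!
# The solvable twin `(C18 × F8) ⋊ (C18 × F8)ˣ`
-/

set_option autoImplicit false

open Cfsg

namespace Cfsg.Agent.Spectra.DegreeTwin

abbrev TwinRing : Type := ZMod 18 × GaloisField 2 3

noncomputable instance : Fintype (GaloisField 2 3) := Fintype.ofFinite _

/-- Multiplication by units. -/
noncomputable def twinAct : TwinRingˣ →* MulAut (Multiplicative TwinRing) :=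
  (MulAutMultiplicative TwinRing).symm.toMonoidHom.comp (DistribMulAction.toAddAut TwinRingˣ TwinRing)

abbrev Twin : Type := Multiplicative TwinRing ⋊[twinAct] TwinRingˣ

noncomputable instance : Fintype TwinRingˣ := Fintype.ofFinite _

noncomputable instance : Fintype Twin :=
  haveI : Fintype (Multiplicative TwinRing) := Fintype.ofFinite _
  Fintype.ofEquiv _ SemidirectProduct.equivProd.symm

theorem card_twin : Nat.card Twin = 6048 := by
  rw [SemidirectProduct.card, Nat.card_eq_of_bijective _ Multiplicative.toAdd.bijective,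
    Nat.card_prod, Nat.card_congr (MulEquiv.prodUnits).toEquiv, Nat.card_prod, Nat.card_zmod,
    GaloisField.card 2 3 (by norm_num), Nat.card_units, GaloisField.card 2 3 (by norm_num),
    Nat.card_eq_fintype_card, ZMod.card_units_eq_totient]
  decide +kernel

theorem isSolvable_twin : Group.IsSolvable Twin := by
  refine solvable_of_ker_le_range (SemidirectProduct.inl (φ := twinAct))
    (SemidirectProduct.rightHom (φ := twinAct)) ?_
  rw [SemidirectProduct.range_inl_eq_ker_rightHom]

theorem exists_addChar : ∃ ψ : AddChar TwinRing ℂ, ∀ u : TwinRing, (∀ r, ψ (u * r) = ψ r) → u = 1 := by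
  haveI : Fact (Nat.Prime 2) := ⟨Nat.prime_two⟩
  obtain ⟨χ, hχ⟩ : ∃ χ : AddChar (GaloisField 2 3) ℂ, χ ≠ 1 := by
    have h := AddChar.exists_apply_ne_zero (α := GaloisField 2 3) (a := 1) |>.mpr one_ne_zero
    obtain ⟨χ, hχ⟩ := h
    exact ⟨χ, fun e => hχ (by rw [e, AddChar.one_apply])⟩
  have hp : χ.IsPrimitive := AddChar.IsPrimitive.of_ne_one hχ
  refine ⟨((ZMod.stdAddChar (N := 18)).compAddMonoidHom (AddMonoidHom.fst _ _)) *
    χ.compAddMonoidHom (AddMonoidHom.snd _ _), fun u hu => ?_⟩
  have h1 : u.1 - 1 = 0 := by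
    by_contra h
    refine ZMod.isPrimitive_stdAddChar 18 h ?_
    ext a
    have e := hu (a, 0)
    simp [AddChar.map_zero_eq_one] at e
    rw [AddChar.mulShift_apply, AddChar.one_apply, sub_mul, one_mul, AddChar.map_sub_eq_div, e,
      div_self]
    intro h0
    have := AddChar.map_add_eq_mul (ZMod.stdAddChar (N := 18)) a (-a)
    rw [add_neg_cancel, AddChar.map_zero_eq_one, h0, zero_mul] at this
    exact one_ne_zero this
  have h2 : u.2 - 1 = 0 := by
    by_contra h
    refine hp h ?_
    ext a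
    have e := hu (0, a)
    simp [AddChar.map_zero_eq_one] at e
    rw [AddChar.mulShift_apply, AddChar.one_apply, sub_mul, one_mul, AddChar.map_sub_eq_div, e,
      div_self]
    intro h0
    have := AddChar.map_add_eq_mul χ a (-a)
    rw [add_neg_cancel, AddChar.map_zero_eq_one, h0, zero_mul] at this
    exact one_ne_zero this
  exact Prod.ext (sub_eq_zero.mp h1) (sub_eq_zero.mp h2)

theorem exists_degree : ∃ d ∈ Cfsg.charDegrees Twin, d = 42 := by
  classical
  obtain ⟨ψ, hψ⟩ := exists_addChar
  set A := (SemidirectProduct.inl (φ := twinAct)).range with hA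
  haveI : A.Normal := by
    rw [hA, SemidirectProduct.range_inl_eq_ker_rightHom]; infer_instance
  let e : Multiplicative TwinRing ≃* A := MonoidHom.ofInjective SemidirectProduct.inl_injective
  let θ : A →* ℂˣ := ((AddChar.toMonoidHom ψ).toHomUnits).comp e.symm.toMonoidHom
  have hval : ∀ x : Multiplicative TwinRing, ∀ hx, (θ ⟨SemidirectProduct.inl x, hx⟩ : ℂ) = ψ x.toAdd := by
    intro x hx
    have : (⟨SemidirectProduct.inl x, hx⟩ : A) = e x := Subtype.ext rfl
    rw [this]
    simp [θ]
  have hconj : ∀ (g : Twin) (x : Multiplicative TwinRing),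
      g * SemidirectProduct.inl x * g⁻¹ = SemidirectProduct.inl (twinAct g.right x) := by
    intro g x
    refine SemidirectProduct.ext ?_ ?_
    · simp [mul_comm g.left, mul_assoc]
    · simp
  have hT : ∀ g : Twin, g ∈ A ↔ ∀ h : A,
      (θ ⟨g * h * g⁻¹, (inferInstance : A.Normal).conj_mem h h.2 g⟩ : ℂ) = θ h := by
    intro g
    constructor
    · rintro hg ⟨_, x, rfl⟩
      obtain ⟨y, rfl⟩ := hg
      congr 2
      apply Subtype.ext
      show SemidirectProduct.inl y * SemidirectProduct.inl x * (SemidirectProduct.inl y)⁻¹ = _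
      rw [← map_inv, ← map_mul, ← map_mul, mul_right_comm, mul_inv_cancel, one_mul]
    · intro h
      rw [hA, SemidirectProduct.range_inl_eq_ker_rightHom, MonoidHom.mem_ker,
        SemidirectProduct.rightHom_eq_right]
      refine Units.ext (hψ _ fun r => ?_)
      have e1 := h ⟨SemidirectProduct.inl (Multiplicative.ofAdd r), ⟨_, rfl⟩⟩
      simp only [hconj] at e1
      have e2 := (hval _ ⟨_, rfl⟩).symm.trans (e1.trans (hval _ ⟨_, rfl⟩))
      exact e2
  obtain ⟨e', C, he, hC, hcard, -, hdeg, -, -⟩ := Cfsg.Lib.Chars.indFun_abelian_inertia A A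
    (θ := fun a => (θ a : ℂ)) (Cfsg.Lib.Chars.isIrrCharacter_linear θ) hT
    (fun x hx y hy => A.mul_mem (A.mul_mem (A.mul_mem hx hy) (A.inv_mem hx)) (A.inv_mem hy))
  rw [Subgroup.relIndex_self, mul_eq_one] at hcard
  have he1 : e' = 1 := by simpa using hcard.1
  obtain ⟨χ, hχ⟩ := Finset.card_pos.mp (by rw [hcard.2]; norm_num : 0 < C.card)
  refine ⟨_, ⟨⟨χ, hC χ hχ⟩, rfl⟩, ?_⟩
  have hindex : A.index = 42 := by
    have h := A.card_mul_index
    rw [card_twin, ← Nat.card_congr e.toEquiv,
      Nat.card_eq_of_bijective _ Multiplicative.toAdd.bijective, Nat.card_prod, Nat.card_zmod,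
      GaloisField.card 2 3 (by norm_num)] at h
    omega
  simp only [Cfsg.charDegree, hdeg χ hχ, map_one, Units.val_one, he1, hindex]
  norm_num

theorem triangle_twin : Triangle Twin := by
  obtain ⟨d, hd, rfl⟩ := exists_degree
  exact ⟨card_twin, ⟨_, hd, by norm_num⟩, ⟨_, hd, by norm_num⟩, ⟨_, hd, by norm_num⟩⟩

end Cfsg.Agent.Spectra.DegreeTwin
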