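import Cfsg.Agent.Spectra.DegreeTwin.Data

/-!
# Evaluation of the certificates
-/

set_option autoImplicit false
set_option Elab.async false
set_option maxRecDepth 100000

namespace Cfsg.Agent.Spectra.DegreeTwin

def at9 (L : List M9) (i : ℕ) : M9 := L.getD i one9

def allBelow (n : ℕ) (f : ℕ → Bool) : Bool := (List.range n).all f

theorem of_allBelow {n : ℕ} {f : ℕ → Bool} (h : allBelow n f = true) : ∀ i < n, f i = true :=
  fun i hi => List.all_eq_true.mp h i (List.mem_range.mpr hi)

/-- Conjugation by both generators permutes the listed class, which is their orbit of its head. -/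
def classCheck (n : ℕ) (K : List M9) (next : ℕ → List ℕ) (par : List (ℕ × ℕ)) : Bool :=
  K.length == n && (allBelow n fun i => (at9 K i).unit &&
    (allBelow 2 fun s => Nat.blt ((next s).getD i 0) n &&
      ((at9 gens s).mul (at9 K i)).eqb ((at9 K ((next s).getD i 0)).mul (at9 gens s))) &&
    (allBelow n fun j => !(at9 K i).eqb (at9 K j) || j == i) &&
    (i == 0 || (Nat.blt (par.getD i (0, 0)).2 i && Nat.blt (par.getD i (0, 0)).1 2 &&
      (next (par.getD i (0, 0)).1).getD (par.getD i (0, 0)).2 0 == i)))

def next56 (s : ℕ) : List ℕ := if s == 0 then next56_0 else next56_1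

def next63 (s : ℕ) : List ℕ := if s == 0 then next63_0 else next63_1

theorem check56 : classCheck 56 cls56 next56 par56 = true := by decide +kernel

theorem check63 : classCheck 63 cls63 next63 par63 = true := by decide +kernel

theorem head56 : (at9 cls56 0).eqb (at9 gens 0) = true := by decide +kernel

theorem word_check : (Nat.blt genWord.1 56 && Nat.blt genWord.2 56 &&
    ((at9 cls56 genWord.1).mul (at9 cls56 genWord.2)).eqb (at9 gens 1)) = true := by decide +kernel

theorem gens_check : allBelow 2 (fun s => (at9 gens s).unit) = true := by decide +kernel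

def firstCol (m : M9) : ℕ := m.e00 + 9 * m.e10 + 81 * m.e20

theorem colTrans_check : ((at9 colTrans 0).eqb one9 && allBelow 252 fun i =>
    ((colPos >>> (8 * firstCol (at9 colTrans i))) &&& 255) == i &&
    (i == 0 || (Nat.blt (colTree.getD i (0, 0)).2 i && Nat.blt (colTree.getD i (0, 0)).1 2 &&
      ((at9 gens (colTree.getD i (0, 0)).1).mul (at9 colTrans (colTree.getD i (0, 0)).2)).eqb
        (at9 colTrans i)))) = true := by decide +kernel

def stabStep (k : ℕ) : Bool :=
  match stabTree.getD k (0, 0, 0, 0) with
  | (0, s, i, j) => Nat.blt s 2 && Nat.blt i 252 && Nat.blt j 252 &&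
      ((at9 colTrans j).mul (at9 stab k)).eqb ((at9 gens s).mul (at9 colTrans i))
  | (_, p, q, _) => Nat.blt p k && Nat.blt q k &&
      ((at9 stab p).mul (at9 stab q)).eqb (at9 stab k)

theorem stab_check : ((at9 stab 0).eqb one9 && allBelow 24 fun k =>
    (at9 stab k).ok && ((at9 stab k).e00 == 1 && (at9 stab k).e10 == 0 && (at9 stab k).e20 == 0) &&
    (allBelow 24 fun j => !(at9 stab k).eqb (at9 stab j) || j == k) &&
    (k == 0 || stabStep k)) = true := by decide +kernel

theorem reps_check : ((at9 reps 0).eqb one9 && allBelow 14 fun r => (at9 reps r).unit) = true := by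
  decide +kernel

theorem wits_check : allBelow 271 (fun w => (at9 wits w).unit) = true := by decide +kernel

def stepCheck (r : ℕ) : Bool :=
  allBelow 56 fun k =>
    Nat.blt ((stepsTab.getD r []).getD k (0, 0)).1 14 &&
    Nat.blt ((stepsTab.getD r []).getD k (0, 0)).2 271 &&
    (((at9 reps r).mul (at9 cls56 k)).mul (at9 wits ((stepsTab.getD r []).getD k (0, 0)).2)).eqb
      ((at9 wits ((stepsTab.getD r []).getD k (0, 0)).2).mul
        (at9 reps ((stepsTab.getD r []).getD k (0, 0)).1))

theorem steps_check_low : allBelow 7 (fun r => stepCheck r) = true := by decide +kernel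

theorem steps_check_high : allBelow 7 (fun r => stepCheck (r + 7)) = true := by decide +kernel

/-- A conjugacy invariant separating all fourteen classes. -/
def invar (m : M9) : ℕ :=
  if m.eqb one9 then 19
  else if (((m.mul m).add m).add one9).eqb zero9 then 18
  else if ((m.mul m).mul (m.mul m)).eqb one9 then 9 + m.trace
  else m.trace

def valSix : List ℤ := [0, 1, 1, 0, -1, 1, 0, -1, 1, 0, 2, -2, 0, 0, -2, 0, 0, -2, -3, 6]

def valTwentyOne : List ℤ := [0, 1, -1, -1, 0, 1, -1, 0, 1, 0, 1, 5, 0, 0, 1, 0, 0, 1, 3, 21]

def valTwentyEight : List ℤ := [1, 0, -1, 0, 0, 0, 0, 0, 0, 0, 0, -4, 0, 0, 0, 0, 0, 0, 1, 28]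

def eigCheck (K : List M9) (val : List ℤ) (l : ℤ) : Bool :=
  allBelow 14 fun r =>
    (K.map fun k => val.getD (invar (k.mul (at9 reps r))) 0).sum ==
      l * val.getD (invar (at9 reps r)) 0

theorem eig_six_two : eigCheck cls63 valSix (-21) = true := by decide +kernel

theorem eig_six_three : eigCheck cls56 valSix (-28) = true := by decide +kernel

theorem eig_twentyOne : eigCheck cls63 valTwentyOne 15 = true := by decide +kernel

theorem eig_twentyEight : eigCheck cls56 valTwentyEight 2 = true := by decide +kernel

end Cfsg.Agent.Spectra.DegreeTwin
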