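import Mathlib
import Cfsg.Agent.Spectra.SUThreeThree

/-!
# Coded `3 × 3` matrices over the field with nine elements

The element `a + b i` has the code `a + 3 b`.
-/

set_option autoImplicit false

namespace Cfsg.Agent.Spectra.DegreeTwin

open Cfsg.Agent.Spectra

def addTab : ℕ := 8986690708024339884259668388453865091868182506470258411551265922896781674643265104972283578167824

def mulTab : ℕ := 12992295474418726299168584010125499800446975643965808714274855111902658395364003326119775607717888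

def ad (x y : ℕ) : ℕ := (addTab >>> (4 * (9 * x + y))) &&& 15

def mu (x y : ℕ) : ℕ := (mulTab >>> (4 * (9 * x + y))) &&& 15

def enc (x : Nine) : ℕ := (x.re : ZMod 3).val + 3 * (x.im : ZMod 3).val

def dec (n : ℕ) : Nine := ⟨(n : ZMod 3), ((n / 3 : ℕ) : ZMod 3)⟩

theorem enc_facts : ∀ x : Nine, enc x < 9 ∧ dec (enc x) = x ∧
    enc (-x) = mu 2 (enc x) ∧ enc (x * (x * x)) = mu (enc x) (mu (enc x) (enc x)) ∧
    ∀ y : Nine, enc (x + y) = ad (enc x) (enc y) ∧ enc (x * y) = mu (enc x) (enc y) := by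
  decide +kernel

theorem enc_dec : ∀ n : Fin 9, enc (dec n) = n := by decide +kernel

structure M9 where
  e00 : ℕ
  e01 : ℕ
  e02 : ℕ
  e10 : ℕ
  e11 : ℕ
  e12 : ℕ
  e20 : ℕ
  e21 : ℕ
  e22 : ℕ

def M9.eqb (m n : M9) : Bool :=
  m.e00 == n.e00 && m.e01 == n.e01 && m.e02 == n.e02 &&
  m.e10 == n.e10 && m.e11 == n.e11 && m.e12 == n.e12 &&
  m.e20 == n.e20 && m.e21 == n.e21 && m.e22 == n.e22

theorem M9.eqb_iff (m n : M9) : m.eqb n = true ↔ m = n := by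
  cases m; cases n
  simp [M9.eqb, and_assoc]

def one9 : M9 := ⟨1, 0, 0, 0, 1, 0, 0, 0, 1⟩

def zero9 : M9 := ⟨0, 0, 0, 0, 0, 0, 0, 0, 0⟩

def dot3 (a b c x y z : ℕ) : ℕ := ad (ad (mu a x) (mu b y)) (mu c z)

def M9.mul (m n : M9) : M9 :=
  ⟨dot3 m.e00 m.e01 m.e02 n.e00 n.e10 n.e20, dot3 m.e00 m.e01 m.e02 n.e01 n.e11 n.e21,
   dot3 m.e00 m.e01 m.e02 n.e02 n.e12 n.e22,
   dot3 m.e10 m.e11 m.e12 n.e00 n.e10 n.e20, dot3 m.e10 m.e11 m.e12 n.e01 n.e11 n.e21,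
   dot3 m.e10 m.e11 m.e12 n.e02 n.e12 n.e22,
   dot3 m.e20 m.e21 m.e22 n.e00 n.e10 n.e20, dot3 m.e20 m.e21 m.e22 n.e01 n.e11 n.e21,
   dot3 m.e20 m.e21 m.e22 n.e02 n.e12 n.e22⟩

def M9.add (m n : M9) : M9 :=
  ⟨ad m.e00 n.e00, ad m.e01 n.e01, ad m.e02 n.e02, ad m.e10 n.e10, ad m.e11 n.e11, ad m.e12 n.e12,
   ad m.e20 n.e20, ad m.e21 n.e21, ad m.e22 n.e22⟩

def M9.trace (m : M9) : ℕ := ad (ad m.e00 m.e11) m.e22

def cb (x : ℕ) : ℕ := mu x (mu x x)

/-- Transpose and cubed matrix. -/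
def M9.starPair (m : M9) : M9 × M9 :=
  (⟨m.e00, m.e10, m.e20, m.e01, m.e11, m.e21, m.e02, m.e12, m.e22⟩,
   ⟨cb m.e00, cb m.e01, cb m.e02, cb m.e10, cb m.e11, cb m.e12, cb m.e20, cb m.e21, cb m.e22⟩)

def sb (x y : ℕ) : ℕ := ad x (mu 2 y)

def M9.det (m : M9) : ℕ :=
  sb (ad (ad (sb (sb (mu (mu m.e00 m.e11) m.e22) (mu (mu m.e00 m.e12) m.e21))
    (mu (mu m.e01 m.e10) m.e22)) (mu (mu m.e01 m.e12) m.e20)) (mu (mu m.e02 m.e10) m.e21))
    (mu (mu m.e02 m.e11) m.e20)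

def M9.ok (m : M9) : Bool :=
  Nat.blt m.e00 9 && Nat.blt m.e01 9 && Nat.blt m.e02 9 &&
  Nat.blt m.e10 9 && Nat.blt m.e11 9 && Nat.blt m.e12 9 &&
  Nat.blt m.e20 9 && Nat.blt m.e21 9 && Nat.blt m.e22 9

/-- The code represents a member of the special unitary group. -/
def M9.unit (m : M9) : Bool :=
  m.ok && ((M9.mul m.starPair.1 m.starPair.2).eqb one9 && m.det == 1)

def ofMat (A : Matrix (Fin 3) (Fin 3) Nine) : M9 :=
  ⟨enc (A 0 0), enc (A 0 1), enc (A 0 2), enc (A 1 0), enc (A 1 1), enc (A 1 2),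
   enc (A 2 0), enc (A 2 1), enc (A 2 2)⟩

def toMat (m : M9) : Matrix (Fin 3) (Fin 3) Nine :=
  !![dec m.e00, dec m.e01, dec m.e02; dec m.e10, dec m.e11, dec m.e12;
     dec m.e20, dec m.e21, dec m.e22]

theorem enc_injective : Function.Injective enc := fun x y h => by
  rw [← (enc_facts x).2.1, h, (enc_facts y).2.1]

theorem ofMat_injective : Function.Injective ofMat := by
  intro A B h
  simp only [ofMat, M9.mk.injEq, enc_injective.eq_iff] at h
  ext i j : 1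
  fin_cases i <;> fin_cases j <;> simp [h]

theorem enc_add (x y : Nine) : enc (x + y) = ad (enc x) (enc y) := ((enc_facts x).2.2.2.2 y).1

theorem enc_mul (x y : Nine) : enc (x * y) = mu (enc x) (enc y) := ((enc_facts x).2.2.2.2 y).2

theorem enc_sub (x y : Nine) : enc (x - y) = sb (enc x) (enc y) := by
  rw [sub_eq_add_neg, enc_add, (enc_facts y).2.2.1]; rfl

theorem ofMat_mul (A B : Matrix (Fin 3) (Fin 3) Nine) :
    ofMat (A * B) = (ofMat A).mul (ofMat B) := by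
  simp only [ofMat, M9.mul, dot3, Matrix.mul_apply, Fin.sum_univ_three, enc_add, enc_mul]

theorem ofMat_add (A B : Matrix (Fin 3) (Fin 3) Nine) :
    ofMat (A + B) = (ofMat A).add (ofMat B) := by
  simp only [ofMat, M9.add, Matrix.add_apply, enc_add]

theorem ofMat_one : ofMat 1 = one9 :=
  (M9.eqb_iff _ _).mp (by decide +kernel)

theorem ofMat_zero : ofMat 0 = zero9 :=
  (M9.eqb_iff _ _).mp (by decide +kernel)

theorem trace_ofMat (A : Matrix (Fin 3) (Fin 3) Nine) : enc A.trace = (ofMat A).trace := by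
  simp only [ofMat, M9.trace, Matrix.trace, Matrix.diag, Fin.sum_univ_three, enc_add]

theorem starPair_ofMat (A : Matrix (Fin 3) (Fin 3) Nine) :
    (ofMat A).starPair = (ofMat A.transpose, ofMat (A.map fun a => a * (a * a))) := by
  simp only [ofMat, M9.starPair, cb, Matrix.transpose_apply, Matrix.map_apply, enc_mul]

theorem det_ofMat (A : Matrix (Fin 3) (Fin 3) Nine) : enc A.det = (ofMat A).det := by
  simp only [ofMat, M9.det, Matrix.det_fin_three, enc_add, enc_sub, enc_mul]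

theorem ofMat_toMat {m : M9} (h : m.ok = true) : ofMat (toMat m) = m := by
  obtain ⟨a, b, c, d, e, f, g, i, j⟩ := m
  simp only [M9.ok, Bool.and_eq_true, Nat.blt_eq] at h
  obtain ⟨⟨⟨⟨⟨⟨⟨⟨ha, hb⟩, hc⟩, hd⟩, he⟩, hf⟩, hg⟩, hi⟩, hj⟩ := h
  simp only [ofMat, toMat, Matrix.cons_val', Matrix.cons_val_zero, Matrix.cons_val_one,
    Matrix.cons_val_fin_one, Matrix.of_apply, Matrix.cons_val, M9.mk.injEq]
  exact ⟨enc_dec ⟨a, ha⟩, enc_dec ⟨b, hb⟩, enc_dec ⟨c, hc⟩, enc_dec ⟨d, hd⟩, enc_dec ⟨e, he⟩,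
    enc_dec ⟨f, hf⟩, enc_dec ⟨g, hg⟩, enc_dec ⟨i, hi⟩, enc_dec ⟨j, hj⟩⟩

theorem unitOne_of_unit {m : M9} (h : m.unit = true) : UnitOne (toMat m) := by
  simp only [M9.unit, Bool.and_eq_true, M9.eqb_iff, beq_iff_eq] at h
  obtain ⟨hok, hmul, hdet⟩ := h
  constructor
  · apply ofMat_injective
    rw [ofMat_mul, ofMat_one, ← hmul]
    conv_rhs => rw [← ofMat_toMat hok, starPair_ofMat]
  · apply enc_injective
    rw [det_ofMat, ofMat_toMat hok, hdet]
    decide +kernel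

end Cfsg.Agent.Spectra.DegreeTwin
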