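import Cfsg.Agent.Spectra.DegreeTwin.Code

/-!
# Certificate data for `SU(3,3)`
-/

set_option autoImplicit false

namespace Cfsg.Agent.Spectra.DegreeTwin

def gens : List M9 := [
  ⟨1, 0, 0, 0, 4, 5, 0, 4, 7⟩, ⟨0, 0, 2, 0, 1, 0, 1, 0, 0⟩]

def cls56 : List M9 := [
  ⟨1, 0, 0, 0, 4, 5, 0, 4, 7⟩, ⟨7, 8, 0, 7, 4, 0, 0, 0, 1⟩, ⟨7, 1, 1, 2, 7, 6, 2, 6, 7⟩, ⟨1, 0, 0, 0, 4, 7, 0, 8, 7⟩,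
  ⟨7, 3, 2, 3, 7, 1, 1, 2, 7⟩, ⟨7, 3, 1, 3, 7, 2, 2, 1, 7⟩, ⟨1, 0, 0, 0, 7, 4, 0, 5, 4⟩, ⟨7, 4, 0, 5, 4, 0, 0, 0, 1⟩,
  ⟨7, 1, 2, 2, 7, 3, 1, 3, 7⟩, ⟨7, 0, 8, 0, 1, 0, 7, 0, 4⟩, ⟨7, 2, 1, 1, 7, 3, 2, 3, 7⟩, ⟨1, 0, 0, 0, 7, 8, 0, 7, 4⟩,
  ⟨4, 7, 0, 8, 7, 0, 0, 0, 1⟩, ⟨7, 2, 2, 1, 7, 6, 1, 6, 7⟩, ⟨7, 2, 3, 1, 7, 2, 3, 1, 7⟩, ⟨7, 6, 2, 6, 7, 2, 1, 1, 7⟩,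
  ⟨7, 6, 3, 6, 7, 3, 3, 3, 7⟩, ⟨4, 0, 5, 0, 1, 0, 4, 0, 7⟩, ⟨7, 1, 6, 2, 7, 2, 6, 1, 7⟩, ⟨7, 6, 1, 6, 7, 1, 2, 2, 7⟩,
  ⟨4, 5, 0, 4, 7, 0, 0, 0, 1⟩, ⟨4, 3, 3, 3, 4, 3, 3, 3, 4⟩, ⟨7, 0, 7, 0, 1, 0, 8, 0, 4⟩, ⟨7, 2, 6, 1, 7, 1, 6, 2, 7⟩,
  ⟨7, 0, 4, 0, 1, 0, 5, 0, 4⟩, ⟨7, 6, 6, 6, 7, 6, 6, 6, 7⟩, ⟨4, 2, 1, 1, 4, 6, 2, 6, 4⟩, ⟨7, 0, 5, 0, 1, 0, 4, 0, 4⟩,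
  ⟨4, 6, 6, 6, 4, 3, 6, 3, 4⟩, ⟨4, 2, 6, 1, 4, 2, 6, 1, 4⟩, ⟨4, 0, 4, 0, 1, 0, 5, 0, 7⟩, ⟨7, 7, 0, 8, 4, 0, 0, 0, 1⟩,
  ⟨7, 1, 3, 2, 7, 1, 3, 2, 7⟩, ⟨7, 3, 6, 3, 7, 3, 6, 3, 7⟩, ⟨4, 0, 7, 0, 1, 0, 8, 0, 7⟩, ⟨7, 3, 3, 3, 7, 6, 3, 6, 7⟩,
  ⟨4, 1, 6, 2, 4, 1, 6, 2, 4⟩, ⟨4, 3, 1, 3, 4, 1, 2, 2, 4⟩, ⟨4, 0, 8, 0, 1, 0, 7, 0, 7⟩, ⟨4, 1, 3, 2, 4, 2, 3, 1, 4⟩,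
  ⟨4, 6, 3, 6, 4, 6, 3, 6, 4⟩, ⟨4, 2, 3, 1, 4, 1, 3, 2, 4⟩, ⟨4, 3, 6, 3, 4, 6, 6, 6, 4⟩, ⟨1, 0, 0, 0, 4, 8, 0, 7, 7⟩,
  ⟨7, 5, 0, 4, 4, 0, 0, 0, 1⟩, ⟨4, 1, 2, 2, 4, 6, 1, 6, 4⟩, ⟨4, 1, 1, 2, 4, 3, 2, 3, 4⟩, ⟨4, 6, 2, 6, 4, 1, 1, 2, 4⟩,
  ⟨1, 0, 0, 0, 4, 4, 0, 5, 7⟩, ⟨4, 3, 2, 3, 4, 2, 1, 1, 4⟩, ⟨4, 6, 1, 6, 4, 2, 2, 1, 4⟩, ⟨1, 0, 0, 0, 7, 5, 0, 4, 4⟩,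
  ⟨4, 8, 0, 7, 7, 0, 0, 0, 1⟩, ⟨4, 2, 2, 1, 4, 3, 1, 3, 4⟩, ⟨4, 4, 0, 5, 7, 0, 0, 0, 1⟩, ⟨1, 0, 0, 0, 7, 7, 0, 8, 4⟩]

def next56_0 : List ℕ := [
  0, 2, 4, 6, 1, 9, 11, 13, 14, 16, 18, 3, 21, 19,
  22, 24, 5, 26, 27, 7, 28, 29, 8, 31, 33, 32, 36, 10,
  39, 12, 42, 35, 44, 15, 45, 23, 17, 38, 40, 20, 37, 34,
  47, 48, 25, 41, 49, 30, 51, 52, 54, 43, 46, 50, 53, 55]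

def next56_1 : List ℕ := [
  1, 3, 5, 7, 8, 10, 12, 0, 15, 17, 19, 20, 11, 4,
  23, 13, 25, 9, 14, 2, 6, 28, 30, 32, 34, 35, 37, 38,
  40, 41, 22, 43, 18, 16, 24, 33, 39, 46, 27, 29, 42, 36,
  21, 44, 48, 49, 50, 45, 31, 53, 26, 52, 55, 47, 51, 54]

def par56 : List (ℕ × ℕ) := [
  (0, 0), (1, 0), (0, 1), (1, 1), (0, 2), (1, 2), (0, 3),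
  (1, 3), (1, 4), (0, 5), (1, 5), (0, 6), (1, 6), (0, 7),
  (0, 8), (1, 8), (0, 9), (1, 9), (0, 10), (1, 10), (1, 11),
  (0, 12), (0, 14), (1, 14), (0, 15), (1, 16), (0, 17), (0, 18),
  (0, 20), (0, 21), (1, 22), (0, 23), (1, 23), (0, 24), (1, 24),
  (1, 25), (0, 26), (1, 26), (1, 27), (0, 28), (1, 28), (1, 29),
  (0, 30), (1, 31), (0, 32), (0, 34), (1, 37), (0, 42), (0, 43),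
  (1, 45), (1, 46), (0, 48), (0, 49), (1, 49), (0, 50), (1, 52)]

def cls63 : List M9 := [
  ⟨0, 0, 1, 0, 2, 0, 1, 0, 0⟩, ⟨0, 8, 4, 5, 1, 1, 7, 1, 1⟩, ⟨0, 0, 2, 0, 2, 0, 2, 0, 0⟩, ⟨0, 4, 7, 7, 1, 3, 4, 6, 1⟩,
  ⟨1, 2, 5, 2, 1, 5, 8, 8, 0⟩, ⟨0, 4, 8, 7, 1, 1, 5, 1, 1⟩, ⟨1, 3, 8, 6, 1, 7, 5, 4, 0⟩, ⟨1, 4, 3, 7, 0, 8, 6, 5, 1⟩,
  ⟨0, 4, 4, 7, 1, 2, 7, 2, 1⟩, ⟨0, 8, 5, 5, 1, 3, 8, 6, 1⟩, ⟨1, 2, 7, 2, 1, 7, 4, 4, 0⟩, ⟨1, 1, 7, 1, 1, 5, 4, 8, 0⟩,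
  ⟨0, 8, 7, 5, 1, 6, 4, 3, 1⟩, ⟨1, 6, 4, 3, 1, 7, 7, 4, 0⟩, ⟨1, 7, 3, 4, 0, 7, 6, 4, 1⟩, ⟨0, 5, 8, 8, 1, 6, 5, 3, 1⟩,
  ⟨1, 1, 5, 1, 1, 7, 8, 4, 0⟩, ⟨1, 3, 4, 6, 1, 5, 7, 8, 0⟩, ⟨0, 8, 8, 5, 1, 2, 5, 2, 1⟩, ⟨1, 8, 6, 5, 0, 8, 3, 5, 1⟩,
  ⟨0, 2, 0, 2, 0, 0, 0, 0, 2⟩, ⟨1, 6, 8, 3, 1, 5, 5, 8, 0⟩, ⟨1, 1, 8, 1, 1, 4, 5, 7, 0⟩, ⟨1, 8, 3, 5, 0, 4, 6, 7, 1⟩,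
  ⟨0, 3, 0, 6, 0, 0, 0, 0, 2⟩, ⟨1, 6, 7, 3, 1, 8, 4, 5, 0⟩, ⟨1, 7, 1, 4, 0, 8, 1, 5, 1⟩, ⟨0, 4, 5, 7, 1, 6, 8, 3, 1⟩,
  ⟨0, 7, 4, 4, 1, 6, 7, 3, 1⟩, ⟨1, 7, 6, 4, 0, 5, 3, 8, 1⟩, ⟨0, 5, 5, 8, 1, 2, 8, 2, 1⟩, ⟨2, 0, 0, 0, 0, 2, 0, 2, 0⟩,
  ⟨1, 5, 2, 8, 0, 8, 2, 5, 1⟩, ⟨1, 4, 1, 7, 0, 5, 1, 8, 1⟩, ⟨0, 5, 7, 8, 1, 1, 4, 1, 1⟩, ⟨1, 5, 3, 8, 0, 5, 6, 8, 1⟩,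
  ⟨2, 0, 0, 0, 0, 6, 0, 3, 0⟩, ⟨0, 7, 8, 4, 1, 3, 5, 6, 1⟩, ⟨1, 7, 2, 4, 0, 4, 2, 7, 1⟩, ⟨0, 1, 0, 1, 0, 0, 0, 0, 2⟩,
  ⟨0, 6, 0, 3, 0, 0, 0, 0, 2⟩, ⟨1, 6, 5, 3, 1, 4, 8, 7, 0⟩, ⟨1, 8, 1, 5, 0, 7, 1, 4, 1⟩, ⟨1, 4, 6, 7, 0, 4, 3, 7, 1⟩,
  ⟨1, 1, 4, 1, 1, 8, 7, 5, 0⟩, ⟨1, 4, 2, 7, 0, 7, 2, 4, 1⟩, ⟨1, 2, 8, 2, 1, 8, 5, 5, 0⟩, ⟨2, 0, 0, 0, 2, 0, 0, 0, 1⟩,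
  ⟨0, 0, 6, 0, 2, 0, 3, 0, 0⟩, ⟨1, 3, 7, 6, 1, 4, 4, 7, 0⟩, ⟨1, 5, 1, 8, 0, 4, 1, 7, 1⟩, ⟨0, 7, 7, 4, 1, 2, 4, 2, 1⟩,
  ⟨2, 0, 0, 0, 0, 1, 0, 1, 0⟩, ⟨2, 0, 0, 0, 0, 3, 0, 6, 0⟩, ⟨0, 5, 4, 8, 1, 3, 7, 6, 1⟩, ⟨1, 8, 2, 5, 0, 5, 2, 8, 1⟩,
  ⟨1, 5, 6, 8, 0, 7, 3, 4, 1⟩, ⟨0, 7, 5, 4, 1, 1, 8, 1, 1⟩, ⟨1, 0, 0, 0, 2, 0, 0, 0, 2⟩, ⟨2, 0, 0, 0, 1, 0, 0, 0, 2⟩,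
  ⟨0, 0, 3, 0, 2, 0, 6, 0, 0⟩, ⟨1, 3, 5, 6, 1, 8, 8, 5, 0⟩, ⟨1, 2, 4, 2, 1, 4, 7, 7, 0⟩]

def next63_0 : List ℕ := [
  1, 3, 5, 0, 7, 9, 11, 13, 15, 2, 17, 19, 20, 4,
  22, 24, 21, 26, 28, 6, 30, 32, 33, 23, 8, 25, 10, 39,
  40, 42, 12, 36, 16, 14, 37, 45, 47, 48, 38, 51, 18, 29,
  41, 43, 44, 49, 46, 31, 34, 35, 50, 27, 53, 59, 60, 56,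
  62, 54, 58, 52, 57, 61, 55]

def next63_1 : List ℕ := [
  2, 4, 0, 6, 8, 10, 12, 14, 16, 17, 18, 5, 21, 9,
  23, 25, 1, 27, 11, 29, 31, 3, 34, 35, 36, 37, 38, 13,
  41, 43, 44, 39, 26, 45, 46, 7, 40, 49, 50, 52, 53, 54,
  55, 56, 57, 42, 51, 58, 48, 15, 32, 22, 20, 24, 61, 33,
  19, 62, 47, 59, 60, 28, 30]

def par63 : List (ℕ × ℕ) := [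
  (0, 0), (0, 0), (1, 0), (0, 1), (1, 1), (0, 2), (1, 3),
  (0, 4), (1, 4), (0, 5), (1, 5), (0, 6), (1, 6), (0, 7),
  (1, 7), (0, 8), (1, 8), (1, 9), (1, 10), (0, 11), (0, 12),
  (1, 12), (0, 14), (1, 14), (0, 15), (1, 15), (0, 17), (1, 17),
  (0, 18), (1, 19), (0, 20), (1, 20), (0, 21), (0, 22), (1, 22),
  (1, 23), (1, 24), (1, 25), (1, 26), (0, 27), (0, 28), (1, 28),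
  (0, 29), (1, 29), (1, 30), (1, 33), (1, 34), (0, 36), (0, 37),
  (1, 37), (1, 38), (0, 39), (1, 39), (1, 40), (1, 41), (1, 42),
  (1, 43), (1, 44), (1, 47), (0, 53), (0, 54), (1, 54), (0, 56)]

def reps : List M9 := [
  ⟨1, 0, 0, 0, 1, 0, 0, 0, 1⟩, ⟨0, 0, 2, 0, 1, 0, 1, 0, 0⟩, ⟨0, 0, 1, 0, 2, 0, 1, 0, 0⟩, ⟨0, 0, 3, 0, 3, 0, 1, 0, 0⟩,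
  ⟨0, 0, 6, 0, 6, 0, 1, 0, 0⟩, ⟨0, 1, 0, 0, 0, 1, 1, 0, 0⟩, ⟨0, 4, 5, 0, 4, 7, 1, 0, 0⟩, ⟨0, 4, 4, 0, 5, 7, 1, 0, 0⟩,
  ⟨0, 4, 8, 0, 7, 7, 1, 0, 0⟩, ⟨0, 4, 7, 0, 8, 7, 1, 0, 0⟩, ⟨1, 0, 0, 0, 4, 5, 0, 4, 7⟩, ⟨1, 0, 0, 0, 5, 5, 0, 4, 8⟩,
  ⟨2, 0, 0, 0, 3, 0, 0, 0, 3⟩, ⟨2, 0, 0, 0, 6, 0, 0, 0, 6⟩]

def wits : List M9 := [
  ⟨2, 0, 0, 0, 1, 0, 0, 0, 2⟩, ⟨1, 0, 0, 0, 1, 0, 0, 0, 1⟩, ⟨3, 0, 0, 0, 2, 0, 0, 0, 3⟩, ⟨6, 0, 0, 0, 2, 0, 0, 0, 6⟩,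
  ⟨7, 0, 7, 0, 6, 0, 7, 0, 5⟩, ⟨6, 5, 2, 5, 0, 8, 2, 8, 3⟩, ⟨1, 5, 1, 1, 3, 4, 4, 3, 1⟩, ⟨2, 8, 2, 2, 6, 5, 5, 6, 2⟩,
  ⟨3, 8, 2, 8, 0, 5, 2, 5, 6⟩, ⟨1, 3, 4, 4, 3, 1, 1, 5, 1⟩, ⟨1, 1, 4, 4, 3, 2, 3, 4, 2⟩, ⟨1, 7, 6, 1, 6, 7, 7, 2, 2⟩,
  ⟨6, 3, 4, 3, 8, 6, 4, 6, 6⟩, ⟨3, 2, 7, 1, 5, 2, 7, 1, 3⟩, ⟨1, 1, 8, 6, 8, 2, 8, 6, 2⟩, ⟨2, 6, 5, 5, 6, 2, 2, 8, 2⟩,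
  ⟨1, 2, 5, 4, 4, 0, 2, 1, 5⟩, ⟨5, 0, 5, 6, 4, 3, 2, 5, 1⟩, ⟨1, 7, 3, 8, 3, 6, 3, 1, 8⟩, ⟨3, 1, 7, 2, 5, 1, 7, 2, 3⟩,
  ⟨6, 5, 6, 7, 0, 5, 6, 7, 6⟩, ⟨1, 5, 2, 3, 4, 6, 5, 0, 5⟩, ⟨3, 8, 1, 8, 6, 3, 1, 3, 7⟩, ⟨8, 0, 5, 0, 6, 0, 5, 0, 8⟩,
  ⟨8, 0, 5, 0, 3, 0, 7, 0, 4⟩, ⟨6, 7, 6, 5, 0, 7, 6, 5, 6⟩, ⟨1, 5, 6, 4, 6, 1, 6, 3, 5⟩, ⟨3, 0, 0, 0, 8, 5, 0, 7, 4⟩,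
  ⟨4, 8, 0, 3, 3, 8, 3, 3, 4⟩, ⟨8, 3, 2, 6, 4, 2, 1, 2, 8⟩, ⟨8, 1, 1, 5, 3, 3, 0, 4, 8⟩, ⟨1, 7, 2, 2, 7, 1, 8, 0, 8⟩,
  ⟨2, 7, 1, 4, 3, 2, 2, 6, 4⟩, ⟨1, 6, 8, 8, 7, 0, 2, 3, 8⟩, ⟨3, 4, 3, 1, 6, 4, 5, 1, 3⟩, ⟨0, 0, 3, 3, 0, 0, 0, 2, 0⟩,
  ⟨1, 1, 5, 7, 6, 1, 3, 5, 2⟩, ⟨0, 0, 6, 8, 8, 0, 4, 8, 0⟩, ⟨1, 5, 3, 6, 1, 4, 4, 3, 3⟩, ⟨4, 0, 4, 1, 7, 2, 1, 5, 2⟩,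
  ⟨0, 6, 0, 3, 0, 0, 0, 0, 2⟩, ⟨4, 0, 4, 0, 6, 0, 8, 0, 4⟩, ⟨1, 2, 7, 5, 1, 2, 6, 4, 6⟩, ⟨1, 2, 4, 7, 3, 6, 1, 8, 1⟩,
  ⟨1, 4, 3, 4, 1, 3, 2, 2, 7⟩, ⟨1, 3, 5, 1, 4, 2, 5, 6, 1⟩, ⟨7, 3, 3, 0, 4, 8, 8, 2, 2⟩, ⟨2, 4, 6, 3, 6, 8, 7, 3, 1⟩,
  ⟨2, 3, 4, 1, 8, 6, 4, 1, 1⟩, ⟨2, 4, 3, 1, 4, 6, 8, 0, 7⟩, ⟨2, 0, 0, 0, 7, 8, 0, 5, 8⟩, ⟨4, 0, 4, 1, 5, 2, 2, 5, 1⟩,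
  ⟨5, 8, 0, 1, 6, 8, 3, 1, 5⟩, ⟨2, 7, 1, 5, 1, 1, 3, 6, 8⟩, ⟨8, 7, 0, 4, 7, 0, 0, 0, 2⟩, ⟨5, 1, 3, 8, 6, 1, 0, 8, 5⟩,
  ⟨4, 3, 3, 8, 3, 3, 0, 8, 4⟩, ⟨4, 0, 4, 3, 7, 6, 1, 4, 2⟩, ⟨3, 1, 5, 4, 1, 2, 3, 7, 2⟩, ⟨1, 4, 3, 1, 3, 4, 4, 2, 2⟩,
  ⟨5, 3, 1, 5, 6, 2, 0, 4, 5⟩, ⟨7, 0, 7, 1, 8, 2, 2, 8, 1⟩, ⟨2, 7, 3, 4, 3, 6, 3, 2, 4⟩, ⟨7, 1, 3, 6, 8, 1, 6, 6, 7⟩,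
  ⟨0, 1, 0, 8, 0, 7, 4, 0, 7⟩, ⟨3, 7, 2, 2, 8, 6, 7, 0, 8⟩, ⟨0, 2, 0, 0, 0, 3, 3, 0, 0⟩, ⟨7, 0, 4, 0, 3, 0, 4, 0, 7⟩,
  ⟨1, 3, 5, 6, 4, 1, 8, 6, 6⟩, ⟨2, 0, 0, 0, 4, 4, 0, 7, 5⟩, ⟨2, 4, 6, 4, 0, 7, 2, 8, 6⟩, ⟨7, 3, 2, 2, 8, 1, 2, 6, 7⟩,
  ⟨8, 7, 0, 7, 8, 0, 0, 0, 6⟩, ⟨1, 3, 5, 1, 5, 3, 5, 2, 2⟩, ⟨2, 5, 1, 8, 6, 3, 2, 2, 7⟩, ⟨3, 7, 1, 2, 1, 5, 5, 6, 1⟩,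
  ⟨1, 8, 3, 1, 4, 3, 8, 0, 5⟩, ⟨1, 8, 3, 2, 1, 7, 4, 2, 3⟩, ⟨2, 0, 0, 0, 4, 8, 0, 5, 5⟩, ⟨2, 4, 6, 3, 5, 2, 7, 0, 8⟩,
  ⟨1, 1, 7, 8, 2, 3, 1, 4, 6⟩, ⟨2, 2, 8, 8, 4, 0, 3, 3, 7⟩, ⟨5, 0, 5, 3, 8, 6, 1, 7, 2⟩, ⟨8, 2, 6, 3, 5, 2, 3, 3, 8⟩,
  ⟨0, 2, 0, 2, 0, 0, 0, 0, 2⟩, ⟨1, 8, 6, 8, 2, 2, 1, 6, 8⟩, ⟨5, 3, 1, 6, 6, 8, 1, 4, 6⟩, ⟨2, 2, 4, 6, 8, 2, 4, 3, 1⟩,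
  ⟨8, 4, 0, 3, 3, 5, 1, 1, 8⟩, ⟨7, 1, 3, 2, 7, 1, 3, 2, 7⟩, ⟨7, 8, 0, 3, 2, 5, 2, 6, 4⟩, ⟨5, 0, 8, 0, 6, 0, 4, 0, 7⟩,
  ⟨6, 6, 4, 6, 8, 3, 4, 3, 6⟩, ⟨1, 2, 4, 3, 6, 7, 4, 4, 0⟩, ⟨3, 7, 1, 4, 0, 5, 3, 5, 1⟩, ⟨1, 6, 8, 5, 8, 0, 6, 2, 7⟩,
  ⟨1, 6, 8, 3, 7, 1, 5, 3, 3⟩, ⟨8, 5, 0, 8, 7, 0, 0, 0, 2⟩, ⟨4, 3, 1, 1, 5, 1, 1, 3, 4⟩, ⟨1, 1, 5, 7, 5, 0, 3, 3, 4⟩,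
  ⟨4, 0, 7, 0, 2, 0, 4, 0, 5⟩, ⟨1, 5, 6, 6, 8, 2, 8, 0, 7⟩, ⟨2, 3, 7, 6, 5, 3, 8, 2, 3⟩, ⟨3, 3, 5, 1, 7, 3, 8, 6, 1⟩,
  ⟨4, 2, 6, 1, 4, 2, 6, 1, 4⟩, ⟨1, 6, 5, 2, 4, 1, 5, 3, 1⟩, ⟨3, 7, 3, 1, 2, 4, 8, 1, 2⟩, ⟨6, 5, 1, 5, 3, 6, 1, 6, 4⟩,
  ⟨4, 0, 4, 6, 4, 3, 6, 8, 3⟩, ⟨7, 0, 7, 2, 7, 1, 3, 4, 6⟩, ⟨3, 4, 6, 1, 5, 2, 7, 0, 7⟩, ⟨1, 1, 4, 2, 5, 6, 5, 2, 6⟩,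
  ⟨1, 3, 5, 6, 7, 3, 8, 1, 3⟩, ⟨2, 8, 3, 8, 2, 3, 1, 1, 7⟩, ⟨0, 0, 2, 0, 1, 0, 1, 0, 0⟩, ⟨1, 2, 5, 4, 2, 3, 2, 4, 6⟩,
  ⟨2, 3, 8, 8, 2, 1, 2, 4, 6⟩, ⟨2, 6, 4, 8, 1, 2, 2, 8, 3⟩, ⟨3, 4, 3, 5, 0, 7, 2, 7, 2⟩, ⟨8, 5, 0, 3, 2, 4, 1, 3, 5⟩,
  ⟨2, 3, 8, 1, 6, 8, 8, 7, 0⟩, ⟨1, 4, 6, 4, 2, 1, 1, 3, 8⟩, ⟨1, 1, 4, 6, 6, 5, 4, 8, 0⟩, ⟨1, 5, 1, 7, 0, 5, 6, 8, 6⟩,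
  ⟨2, 2, 8, 1, 1, 8, 5, 7, 0⟩, ⟨2, 7, 2, 4, 6, 3, 1, 2, 7⟩, ⟨2, 6, 7, 6, 1, 8, 4, 7, 0⟩, ⟨1, 4, 3, 4, 2, 2, 2, 6, 8⟩,
  ⟨2, 3, 4, 8, 7, 0, 1, 6, 4⟩, ⟨8, 8, 0, 6, 3, 8, 3, 6, 8⟩, ⟨8, 6, 6, 6, 6, 8, 6, 8, 6⟩, ⟨0, 0, 3, 0, 3, 0, 1, 0, 0⟩,
  ⟨0, 0, 6, 0, 6, 0, 1, 0, 0⟩, ⟨0, 0, 1, 0, 1, 0, 2, 0, 0⟩, ⟨6, 1, 7, 5, 2, 3, 1, 5, 1⟩, ⟨2, 6, 8, 2, 8, 6, 8, 1, 1⟩,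
  ⟨4, 3, 2, 0, 4, 7, 5, 1, 3⟩, ⟨4, 5, 0, 7, 8, 0, 0, 0, 3⟩, ⟨7, 3, 3, 6, 1, 7, 1, 4, 3⟩, ⟨1, 4, 6, 3, 3, 4, 5, 3, 1⟩,
  ⟨7, 0, 7, 6, 4, 3, 1, 7, 2⟩, ⟨6, 7, 1, 8, 1, 1, 3, 2, 5⟩, ⟨4, 0, 7, 1, 8, 3, 2, 8, 6⟩, ⟨4, 0, 4, 2, 5, 1, 2, 7, 1⟩,
  ⟨7, 0, 7, 1, 7, 2, 3, 8, 6⟩, ⟨7, 3, 3, 0, 5, 7, 5, 3, 3⟩, ⟨8, 2, 2, 1, 6, 8, 1, 8, 6⟩, ⟨2, 2, 7, 4, 1, 3, 2, 8, 6⟩,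
  ⟨4, 7, 0, 6, 1, 5, 3, 2, 5⟩, ⟨6, 5, 2, 2, 1, 5, 7, 3, 2⟩, ⟨7, 0, 7, 3, 8, 6, 2, 5, 1⟩, ⟨5, 0, 5, 7, 0, 5, 0, 6, 0⟩,
  ⟨7, 1, 2, 0, 4, 4, 5, 1, 2⟩, ⟨2, 2, 5, 3, 5, 1, 5, 3, 1⟩, ⟨4, 3, 3, 6, 1, 4, 2, 7, 6⟩, ⟨1, 6, 8, 5, 3, 3, 6, 5, 2⟩,
  ⟨1, 7, 6, 1, 5, 6, 7, 0, 4⟩, ⟨5, 0, 5, 8, 0, 4, 0, 1, 0⟩, ⟨7, 3, 6, 4, 1, 2, 0, 8, 8⟩, ⟨3, 1, 7, 6, 8, 3, 8, 3, 1⟩,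
  ⟨6, 4, 3, 6, 8, 3, 4, 0, 4⟩, ⟨5, 0, 5, 5, 0, 7, 0, 3, 0⟩, ⟨5, 0, 5, 2, 4, 1, 2, 8, 1⟩, ⟨8, 0, 7, 0, 1, 0, 8, 0, 5⟩,
  ⟨0, 0, 1, 0, 3, 0, 3, 0, 0⟩, ⟨1, 1, 5, 7, 1, 2, 3, 4, 6⟩, ⟨5, 6, 1, 6, 7, 3, 6, 1, 4⟩, ⟨5, 1, 3, 0, 5, 4, 5, 2, 6⟩,
  ⟨6, 7, 1, 7, 6, 1, 1, 1, 5⟩, ⟨0, 7, 8, 8, 6, 1, 8, 3, 2⟩, ⟨6, 2, 5, 2, 3, 8, 5, 8, 0⟩, ⟨2, 5, 6, 1, 1, 4, 7, 1, 3⟩,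
  ⟨3, 2, 4, 1, 3, 5, 8, 5, 0⟩, ⟨7, 0, 7, 2, 5, 1, 6, 4, 3⟩, ⟨8, 1, 3, 0, 4, 7, 8, 2, 6⟩, ⟨4, 0, 4, 7, 0, 5, 0, 1, 0⟩,
  ⟨7, 0, 7, 2, 4, 1, 1, 4, 2⟩, ⟨1, 5, 6, 6, 3, 5, 8, 3, 2⟩, ⟨6, 4, 2, 8, 0, 7, 2, 5, 3⟩, ⟨1, 7, 6, 2, 2, 4, 5, 2, 3⟩,
  ⟨6, 8, 1, 4, 6, 3, 1, 6, 5⟩, ⟨5, 6, 3, 0, 4, 4, 8, 2, 1⟩, ⟨2, 7, 6, 1, 7, 3, 5, 0, 4⟩, ⟨1, 1, 8, 3, 5, 6, 4, 1, 2⟩,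
  ⟨3, 1, 4, 2, 5, 3, 8, 3, 3⟩, ⟨3, 3, 5, 6, 6, 5, 7, 5, 0⟩, ⟨6, 2, 8, 4, 1, 3, 1, 8, 1⟩, ⟨8, 3, 1, 6, 2, 5, 3, 4, 6⟩,
  ⟨2, 5, 6, 8, 6, 1, 6, 6, 7⟩, ⟨1, 2, 8, 1, 2, 4, 7, 7, 0⟩, ⟨1, 2, 8, 1, 5, 6, 7, 2, 6⟩, ⟨1, 2, 8, 1, 8, 2, 7, 3, 3⟩,
  ⟨1, 7, 2, 4, 0, 4, 2, 7, 1⟩, ⟨1, 7, 2, 4, 6, 2, 2, 3, 4⟩, ⟨1, 8, 3, 5, 0, 4, 6, 7, 1⟩, ⟨1, 4, 6, 7, 0, 4, 3, 7, 1⟩,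
  ⟨1, 4, 6, 7, 3, 6, 3, 2, 7⟩, ⟨1, 4, 6, 7, 6, 2, 3, 3, 4⟩, ⟨1, 8, 3, 7, 0, 8, 3, 5, 2⟩, ⟨2, 6, 7, 1, 4, 2, 7, 3, 2⟩,
  ⟨2, 3, 5, 2, 3, 7, 5, 8, 0⟩, ⟨2, 1, 4, 6, 3, 7, 8, 8, 0⟩, ⟨2, 4, 6, 8, 0, 5, 1, 4, 3⟩, ⟨2, 8, 3, 8, 0, 7, 1, 8, 6⟩,
  ⟨0, 0, 6, 0, 3, 0, 2, 0, 0⟩, ⟨1, 5, 2, 4, 0, 4, 1, 7, 2⟩, ⟨2, 2, 7, 8, 6, 3, 1, 7, 2⟩, ⟨2, 3, 4, 8, 3, 1, 1, 7, 2⟩,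
  ⟨2, 2, 5, 8, 2, 3, 2, 8, 3⟩, ⟨3, 7, 1, 5, 0, 8, 1, 4, 6⟩, ⟨3, 8, 6, 5, 0, 5, 2, 5, 1⟩, ⟨4, 5, 0, 6, 2, 4, 1, 6, 7⟩,
  ⟨6, 7, 1, 7, 0, 8, 1, 8, 3⟩, ⟨6, 1, 7, 7, 1, 6, 2, 7, 2⟩, ⟨6, 4, 3, 7, 0, 7, 2, 5, 1⟩, ⟨7, 6, 6, 2, 8, 2, 1, 1, 4⟩,
  ⟨8, 4, 0, 3, 3, 7, 2, 2, 8⟩, ⟨0, 7, 5, 7, 3, 3, 5, 3, 3⟩, ⟨3, 2, 7, 3, 8, 6, 8, 6, 1⟩, ⟨4, 2, 6, 0, 7, 8, 5, 3, 2⟩,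
  ⟨5, 1, 1, 2, 7, 1, 6, 3, 4⟩, ⟨5, 2, 6, 6, 4, 3, 2, 6, 4⟩, ⟨5, 3, 3, 6, 2, 5, 2, 4, 3⟩, ⟨6, 4, 3, 6, 3, 4, 4, 6, 6⟩,
  ⟨7, 8, 0, 3, 2, 7, 1, 3, 4⟩, ⟨1, 6, 7, 2, 3, 7, 7, 4, 0⟩, ⟨1, 1, 4, 3, 3, 7, 8, 4, 0⟩, ⟨1, 8, 3, 4, 2, 3, 1, 2, 5⟩,
  ⟨1, 4, 6, 8, 2, 3, 2, 2, 5⟩, ⟨1, 8, 3, 8, 2, 1, 2, 3, 8⟩, ⟨2, 6, 7, 3, 2, 4, 8, 5, 0⟩, ⟨2, 5, 1, 4, 3, 6, 1, 1, 5⟩,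
  ⟨2, 4, 6, 5, 3, 6, 3, 1, 5⟩, ⟨2, 3, 5, 6, 8, 2, 4, 6, 6⟩, ⟨2, 4, 6, 7, 6, 3, 6, 2, 7⟩, ⟨2, 8, 3, 7, 3, 6, 6, 1, 5⟩,
  ⟨6, 3, 4, 1, 5, 2, 5, 1, 1⟩, ⟨7, 2, 6, 0, 8, 5, 8, 6, 1⟩, ⟨8, 1, 3, 2, 1, 5, 2, 4, 3⟩, ⟨1, 6, 8, 4, 5, 0, 1, 6, 4⟩,
  ⟨2, 2, 5, 8, 4, 0, 2, 2, 7⟩, ⟨3, 6, 8, 2, 7, 1, 5, 1, 1⟩, ⟨8, 5, 0, 6, 1, 5, 6, 1, 7⟩, ⟨2, 3, 5, 4, 6, 6, 3, 4, 1⟩,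
  ⟨2, 8, 3, 6, 5, 2, 5, 0, 8⟩, ⟨2, 2, 8, 7, 1, 3, 1, 7, 3⟩, ⟨5, 3, 2, 2, 4, 2, 1, 6, 7⟩, ⟨8, 1, 3, 6, 7, 3, 2, 6, 7⟩,
  ⟨8, 5, 0, 6, 1, 8, 2, 6, 7⟩, ⟨8, 7, 0, 6, 2, 4, 2, 3, 5⟩, ⟨0, 5, 7, 5, 6, 6, 5, 3, 3⟩, ⟨6, 3, 4, 6, 3, 8, 8, 8, 0⟩,
  ⟨0, 0, 6, 1, 0, 0, 0, 3, 0⟩, ⟨2, 2, 5, 1, 4, 6, 8, 2, 3⟩, ⟨1, 6, 4, 1, 6, 8, 4, 5, 0⟩, ⟨5, 4, 0, 3, 2, 7, 2, 6, 8⟩,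
  ⟨8, 3, 2, 5, 2, 6, 0, 8, 5⟩, ⟨8, 0, 7, 2, 4, 3, 1, 4, 6⟩, ⟨5, 1, 1, 0, 8, 4, 5, 2, 2⟩, ⟨7, 1, 3, 5, 1, 3, 0, 7, 8⟩,
  ⟨4, 1, 3, 0, 8, 5, 4, 2, 6⟩, ⟨5, 6, 6, 1, 3, 4, 3, 5, 2⟩, ⟨7, 6, 1, 3, 3, 8, 2, 8, 6⟩, ⟨4, 0, 7, 2, 5, 6, 6, 4, 1⟩,
  ⟨0, 0, 2, 3, 0, 0, 0, 3, 0⟩, ⟨5, 0, 7, 0, 3, 0, 5, 0, 5⟩, ⟨3, 4, 6, 4, 0, 4, 3, 8, 6⟩, ⟨3, 4, 6, 4, 6, 2, 3, 1, 7⟩,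
  ⟨5, 1, 3, 3, 8, 1, 6, 3, 5⟩, ⟨3, 4, 6, 5, 2, 1, 1, 1, 5⟩, ⟨2, 4, 2, 5, 0, 7, 2, 8, 2⟩]

def steps0 : List (ℕ × ℕ) := [
  (10, 1), (10, 9), (10, 44), (10, 0), (10, 16), (10, 28), (10, 10),
  (10, 5), (10, 48), (10, 49), (10, 30), (10, 6), (10, 51), (10, 32),
  (10, 53), (10, 33), (10, 54), (10, 11), (10, 12), (10, 34), (10, 17),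
  (10, 18), (10, 35), (10, 36), (10, 19), (10, 37), (10, 20), (10, 21),
  (10, 4), (10, 22), (10, 38), (10, 58), (10, 59), (10, 13), (10, 39),
  (10, 99), (10, 7), (10, 23), (10, 40), (10, 41), (10, 14), (10, 8),
  (10, 62), (10, 2), (10, 42), (10, 15), (10, 64), (10, 24), (10, 3),
  (10, 25), (10, 43), (10, 65), (10, 66), (10, 67), (10, 26), (10, 27)]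

def steps1 : List (ℕ × ℕ) := [
  (6, 0), (6, 133), (4, 178), (6, 1), (12, 10), (4, 5), (8, 2),
  (6, 114), (12, 8), (11, 40), (4, 123), (8, 3), (8, 172), (12, 36),
  (8, 33), (12, 18), (8, 152), (11, 264), (8, 141), (4, 209), (8, 250),
  (6, 167), (10, 40), (8, 41), (10, 49), (8, 127), (3, 118), (11, 252),
  (6, 16), (6, 208), (10, 21), (6, 185), (8, 128), (8, 38), (10, 11),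
  (8, 154), (6, 80), (3, 198), (11, 84), (6, 113), (6, 126), (6, 41),
  (6, 248), (6, 3), (6, 27), (13, 5), (3, 212), (13, 53), (6, 2),
  (13, 22), (3, 8), (8, 0), (8, 133), (13, 26), (8, 114), (8, 1)]

def steps2 : List (ℕ × ℕ) := [
  (9, 1), (9, 71), (7, 45), (9, 0), (7, 23), (7, 20), (7, 3),
  (9, 73), (7, 49), (7, 17), (7, 67), (7, 2), (7, 72), (7, 25),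
  (11, 100), (7, 71), (11, 265), (9, 39), (9, 12), (7, 46), (7, 137),
  (7, 19), (7, 31), (9, 146), (9, 19), (9, 89), (9, 20), (9, 92),
  (11, 174), (11, 167), (9, 21), (9, 130), (11, 163), (9, 13), (7, 12),
  (11, 4), (11, 258), (9, 23), (7, 13), (7, 92), (7, 47), (7, 10),
  (11, 260), (9, 2), (9, 104), (9, 105), (9, 106), (9, 81), (9, 3),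
  (9, 25), (9, 270), (7, 1), (7, 87), (9, 67), (7, 14), (7, 0)]

def steps3 : List (ℕ × ℕ) := [
  (7, 3), (7, 78), (11, 268), (7, 2), (4, 169), (11, 119), (6, 0),
  (7, 123), (4, 211), (3, 100), (11, 166), (6, 1), (6, 131), (4, 249),
  (4, 225), (4, 217), (4, 256), (1, 94), (11, 184), (11, 29), (6, 204),
  (8, 31), (12, 23), (11, 103), (3, 4), (11, 111), (5, 112), (1, 5),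
  (5, 62), (5, 117), (3, 91), (7, 131), (4, 200), (11, 45), (12, 4),
  (4, 158), (5, 22), (5, 149), (3, 24), (8, 110), (8, 36), (8, 153),
  (5, 101), (7, 1), (7, 54), (8, 87), (5, 90), (8, 17), (7, 0),
  (8, 44), (5, 75), (6, 3), (6, 50), (8, 14), (6, 124), (6, 2)]

def steps4 : List (ℕ × ℕ) := [
  (8, 2), (8, 69), (5, 58), (8, 3), (6, 42), (5, 18), (9, 1),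
  (8, 164), (6, 39), (1, 70), (5, 180), (9, 0), (9, 118), (6, 11),
  (5, 102), (6, 73), (5, 77), (4, 163), (6, 21), (5, 116), (9, 132),
  (11, 31), (4, 24), (6, 125), (13, 4), (6, 135), (11, 108), (4, 91),
  (3, 93), (3, 120), (13, 24), (8, 97), (5, 107), (6, 160), (4, 4),
  (5, 79), (3, 254), (11, 82), (1, 8), (11, 110), (11, 76), (11, 65),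
  (3, 122), (8, 0), (8, 132), (3, 224), (11, 187), (3, 148), (8, 1),
  (3, 242), (11, 86), (9, 2), (9, 68), (3, 255), (9, 164), (9, 3)]

def steps5 : List (ℕ × ℕ) := [
  (6, 1), (8, 66), (4, 42), (9, 1), (6, 98), (7, 70), (7, 2),
  (7, 66), (6, 9), (9, 6), (7, 15), (8, 2), (9, 59), (4, 22),
  (7, 7), (4, 96), (3, 119), (7, 35), (4, 233), (4, 86), (6, 15),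
  (5, 8), (8, 7), (4, 26), (6, 81), (5, 5), (9, 7), (7, 98),
  (4, 95), (9, 111), (6, 35), (9, 38), (6, 6), (3, 172), (8, 35),
  (3, 237), (8, 98), (3, 186), (9, 35), (3, 103), (4, 226), (3, 106),
  (4, 90), (8, 1), (6, 66), (8, 6), (3, 134), (8, 9), (7, 1),
  (3, 68), (9, 15), (6, 2), (8, 46), (3, 107), (7, 9), (9, 2)]

def steps6 : List (ℕ × ℕ) := [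
  (9, 2), (9, 42), (11, 51), (8, 0), (1, 43), (8, 90), (9, 3),
  (8, 22), (3, 7), (4, 116), (3, 43), (7, 0), (7, 170), (3, 52),
  (5, 7), (9, 56), (5, 52), (8, 169), (3, 27), (8, 11), (9, 26),
  (7, 8), (1, 7), (4, 32), (11, 61), (3, 56), (7, 112), (8, 178),
  (4, 153), (4, 47), (11, 57), (5, 38), (11, 87), (4, 33), (1, 52),
  (11, 139), (9, 145), (5, 56), (4, 10), (11, 182), (11, 181), (7, 125),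
  (9, 52), (5, 3), (3, 54), (7, 43), (7, 48), (1, 17), (3, 0),
  (1, 56), (8, 43), (1, 0), (1, 31), (4, 14), (5, 216), (5, 1)]

def steps7 : List (ℕ × ℕ) := [
  (5, 3), (5, 20), (8, 259), (2, 0), (8, 19), (3, 20), (3, 0),
  (2, 11), (5, 81), (5, 6), (2, 6), (5, 1), (5, 72), (5, 93),
  (6, 30), (13, 33), (6, 69), (6, 29), (6, 136), (3, 138), (3, 137),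
  (3, 19), (3, 29), (8, 92), (8, 26), (6, 5), (8, 222), (6, 45),
  (6, 94), (6, 117), (8, 129), (6, 97), (3, 6), (8, 27), (3, 45),
  (3, 218), (3, 30), (7, 62), (5, 109), (5, 65), (5, 64), (3, 129),
  (3, 50), (6, 0), (8, 96), (9, 30), (8, 236), (6, 32), (8, 2),
  (6, 68), (5, 19), (9, 0), (9, 29), (5, 59), (8, 20), (8, 3)]

def steps8 : List (ℕ × ℕ) := [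
  (1, 0), (1, 21), (5, 37), (5, 3), (9, 76), (9, 5), (5, 1),
  (5, 28), (1, 55), (6, 107), (6, 120), (4, 0), (4, 72), (1, 37),
  (3, 135), (3, 73), (3, 53), (3, 80), (9, 121), (9, 86), (5, 15),
  (4, 37), (11, 148), (11, 46), (1, 28), (9, 78), (6, 231), (3, 243),
  (5, 34), (5, 55), (1, 34), (7, 18), (7, 55), (11, 75), (11, 89),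
  (7, 34), (11, 185), (11, 104), (6, 106), (3, 16), (3, 74), (4, 55),
  (11, 12), (7, 2), (9, 54), (1, 15), (6, 10), (4, 28), (9, 0),
  (4, 34), (4, 15), (7, 3), (7, 28), (7, 37), (6, 47), (6, 0)]

def steps9 : List (ℕ × ℕ) := [
  (7, 0), (7, 88), (9, 188), (6, 2), (7, 60), (6, 159), (8, 0),
  (6, 77), (8, 168), (8, 58), (5, 199), (6, 3), (6, 63), (8, 74),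
  (8, 102), (5, 83), (8, 147), (5, 57), (4, 12), (6, 25), (8, 48),
  (8, 88), (6, 79), (5, 146), (4, 13), (4, 88), (4, 9), (5, 61),
  (8, 60), (8, 50), (4, 83), (4, 97), (4, 69), (5, 13), (6, 18),
  (4, 60), (4, 63), (6, 83), (8, 8), (6, 103), (6, 13), (8, 105),
  (4, 85), (4, 0), (5, 63), (6, 12), (4, 25), (5, 9), (5, 3),
  (5, 25), (2, 14), (5, 1), (5, 46), (12, 16), (2, 9), (2, 0)]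

def steps10 : List (ℕ × ℕ) := [
  (10, 27), (11, 16), (11, 115), (11, 50), (11, 44), (1, 126), (11, 0),
  (11, 85), (1, 58), (1, 30), (1, 245), (11, 78), (1, 219), (11, 80),
  (1, 213), (1, 230), (1, 10), (11, 7), (1, 134), (11, 32), (1, 215),
  (1, 48), (1, 130), (11, 99), (1, 122), (11, 42), (11, 11), (1, 124),
  (1, 29), (1, 181), (11, 183), (11, 36), (11, 155), (1, 154), (11, 179),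
  (11, 165), (11, 156), (11, 14), (11, 101), (1, 220), (11, 177), (11, 105),
  (11, 93), (1, 64), (11, 95), (11, 171), (1, 253), (11, 102), (1, 40),
  (1, 239), (1, 33), (1, 84), (1, 240), (1, 96), (1, 174), (0, 0)]

def steps11 : List (ℕ × ℕ) := [
  (2, 4), (6, 142), (6, 263), (1, 40), (6, 100), (3, 189), (1, 84),
  (6, 95), (3, 13), (3, 190), (3, 183), (1, 64), (4, 147), (6, 262),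
  (3, 170), (3, 60), (3, 191), (8, 184), (3, 201), (6, 155), (4, 115),
  (4, 138), (3, 14), (6, 23), (3, 71), (6, 207), (8, 241), (3, 166),
  (4, 206), (4, 145), (8, 221), (6, 246), (6, 24), (3, 159), (8, 89),
  (6, 152), (8, 247), (8, 104), (8, 251), (4, 16), (8, 186), (8, 63),
  (8, 12), (10, 6), (6, 128), (8, 238), (4, 165), (8, 158), (10, 0),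
  (4, 99), (4, 136), (10, 10), (4, 36), (4, 261), (4, 187), (11, 27)]

def steps12 : List (ℕ × ℕ) := [
  (9, 74), (1, 156), (1, 139), (9, 31), (1, 11), (1, 85), (9, 192),
  (1, 49), (1, 22), (1, 94), (1, 197), (9, 193), (3, 161), (1, 179),
  (1, 149), (1, 62), (1, 26), (3, 41), (1, 196), (1, 121), (3, 151),
  (3, 108), (1, 5), (1, 235), (1, 203), (1, 228), (3, 257), (1, 195),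
  (3, 162), (3, 17), (3, 67), (1, 101), (1, 75), (1, 113), (3, 4),
  (1, 177), (3, 140), (3, 173), (3, 91), (3, 82), (3, 61), (3, 150),
  (3, 176), (9, 269), (1, 244), (3, 51), (3, 39), (3, 144), (9, 110),
  (3, 109), (3, 57), (9, 266), (3, 157), (3, 143), (3, 175), (9, 267)]

def steps13 : List (ℕ × ℕ) := [
  (7, 210), (4, 151), (4, 162), (7, 214), (4, 82), (4, 140), (7, 223),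
  (4, 161), (4, 61), (4, 41), (4, 176), (7, 160), (1, 182), (4, 108),
  (4, 173), (4, 150), (4, 142), (1, 70), (4, 144), (4, 17), (1, 76),
  (1, 171), (4, 23), (4, 109), (4, 4), (4, 143), (1, 77), (4, 24),
  (1, 180), (1, 18), (1, 8), (4, 157), (4, 57), (4, 51), (1, 202),
  (4, 39), (1, 168), (1, 38), (1, 194), (1, 229), (1, 141), (1, 127),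
  (1, 47), (7, 205), (4, 175), (1, 44), (1, 227), (1, 59), (7, 53),
  (1, 234), (1, 232), (7, 32), (1, 79), (1, 188), (1, 65), (7, 21)]

def stepsTab : List (List (ℕ × ℕ)) := [steps0, steps1, steps2, steps3, steps4, steps5, steps6, steps7, steps8, steps9, steps10, steps11, steps12, steps13]

def colTrans : List M9 := [
  ⟨1, 0, 0, 0, 1, 0, 0, 0, 1⟩, ⟨0, 0, 2, 0, 1, 0, 1, 0, 0⟩, ⟨0, 0, 2, 5, 4, 0, 7, 4, 0⟩, ⟨2, 0, 0, 0, 1, 0, 0, 0, 2⟩,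
  ⟨0, 0, 2, 7, 7, 0, 4, 8, 0⟩, ⟨5, 8, 0, 5, 4, 0, 0, 0, 2⟩, ⟨0, 0, 1, 0, 1, 0, 2, 0, 0⟩, ⟨8, 4, 0, 7, 7, 0, 0, 0, 2⟩,
  ⟨5, 8, 0, 1, 6, 7, 1, 6, 5⟩, ⟨0, 0, 1, 5, 4, 0, 5, 8, 0⟩, ⟨0, 0, 1, 7, 4, 0, 5, 4, 0⟩, ⟨8, 4, 0, 2, 2, 7, 2, 2, 5⟩,
  ⟨0, 0, 1, 7, 7, 0, 8, 4, 0⟩, ⟨5, 8, 0, 6, 2, 5, 2, 3, 8⟩, ⟨2, 3, 7, 1, 6, 7, 5, 8, 0⟩, ⟨0, 0, 1, 4, 8, 0, 7, 7, 0⟩,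
  ⟨7, 4, 0, 5, 4, 0, 0, 0, 1⟩, ⟨0, 0, 1, 5, 7, 0, 8, 8, 0⟩, ⟨7, 8, 0, 7, 4, 0, 0, 0, 1⟩, ⟨8, 4, 0, 3, 3, 5, 1, 1, 8⟩,
  ⟨1, 1, 7, 2, 2, 7, 8, 4, 0⟩, ⟨0, 0, 1, 1, 0, 0, 0, 1, 0⟩, ⟨4, 8, 0, 7, 7, 0, 0, 0, 1⟩, ⟨1, 6, 4, 6, 2, 5, 5, 8, 0⟩,
  ⟨2, 3, 7, 7, 6, 2, 1, 8, 2⟩, ⟨7, 4, 0, 1, 6, 7, 2, 3, 7⟩, ⟨0, 0, 1, 3, 0, 0, 0, 6, 0⟩, ⟨5, 5, 0, 4, 8, 0, 0, 0, 1⟩,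
  ⟨7, 4, 0, 1, 6, 5, 1, 6, 7⟩, ⟨4, 4, 0, 5, 7, 0, 0, 0, 1⟩, ⟨7, 8, 0, 2, 6, 5, 2, 6, 7⟩, ⟨0, 0, 2, 7, 4, 0, 7, 8, 0⟩,
  ⟨2, 2, 4, 3, 3, 5, 8, 4, 0⟩, ⟨1, 1, 7, 7, 6, 2, 6, 7, 2⟩, ⟨4, 8, 0, 2, 2, 7, 1, 1, 7⟩, ⟨0, 0, 1, 4, 5, 0, 4, 7, 0⟩,
  ⟨4, 8, 0, 2, 2, 5, 2, 2, 7⟩, ⟨1, 6, 4, 1, 7, 1, 4, 6, 1⟩, ⟨7, 4, 0, 6, 2, 5, 1, 6, 4⟩, ⟨2, 3, 7, 4, 6, 3, 6, 8, 1⟩,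
  ⟨2, 4, 1, 7, 6, 2, 2, 3, 7⟩, ⟨7, 4, 0, 2, 3, 8, 6, 2, 5⟩, ⟨1, 6, 5, 1, 6, 7, 7, 4, 0⟩, ⟨5, 5, 0, 6, 3, 5, 6, 3, 7⟩,
  ⟨0, 0, 2, 4, 8, 0, 5, 5, 0⟩, ⟨7, 4, 0, 6, 2, 7, 2, 3, 4⟩, ⟨2, 3, 5, 1, 6, 5, 7, 4, 0⟩, ⟨4, 4, 0, 1, 2, 5, 1, 2, 7⟩,
  ⟨0, 0, 2, 5, 7, 0, 4, 4, 0⟩, ⟨7, 8, 0, 3, 2, 7, 1, 3, 4⟩, ⟨1, 3, 5, 2, 6, 5, 7, 8, 0⟩, ⟨0, 0, 2, 8, 8, 0, 5, 7, 0⟩,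
  ⟨5, 4, 0, 7, 4, 0, 0, 0, 2⟩, ⟨2, 2, 4, 4, 3, 1, 3, 4, 1⟩, ⟨4, 8, 0, 3, 3, 5, 2, 2, 4⟩, ⟨1, 1, 7, 3, 4, 3, 7, 1, 1⟩,
  ⟨3, 5, 1, 7, 6, 2, 1, 1, 7⟩, ⟨4, 8, 0, 1, 1, 8, 3, 3, 5⟩, ⟨2, 2, 5, 2, 2, 7, 4, 8, 0⟩, ⟨8, 5, 0, 4, 5, 0, 0, 0, 1⟩,
  ⟨4, 8, 0, 3, 3, 7, 1, 1, 4⟩, ⟨1, 1, 5, 2, 2, 5, 4, 8, 0⟩, ⟨1, 6, 4, 5, 3, 6, 3, 7, 2⟩, ⟨8, 3, 2, 1, 7, 1, 1, 6, 4⟩,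
  ⟨7, 4, 0, 0, 0, 2, 5, 4, 0⟩, ⟨2, 3, 8, 6, 2, 5, 7, 4, 0⟩, ⟨3, 4, 2, 4, 6, 3, 2, 3, 7⟩, ⟨2, 4, 1, 6, 3, 5, 4, 2, 2⟩,
  ⟨1, 6, 5, 7, 6, 2, 2, 4, 1⟩, ⟨7, 4, 0, 0, 0, 6, 4, 7, 0⟩, ⟨3, 1, 7, 2, 3, 8, 7, 4, 0⟩, ⟨5, 5, 0, 2, 1, 7, 3, 6, 4⟩,
  ⟨3, 6, 5, 6, 3, 5, 5, 5, 0⟩, ⟨0, 0, 2, 0, 6, 0, 3, 0, 0⟩, ⟨7, 7, 0, 4, 8, 0, 0, 0, 2⟩, ⟨1, 6, 8, 6, 2, 7, 7, 4, 0⟩,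
  ⟨5, 8, 0, 1, 6, 5, 2, 3, 5⟩, ⟨4, 4, 0, 6, 3, 7, 2, 1, 4⟩, ⟨2, 1, 5, 1, 2, 5, 4, 4, 0⟩, ⟨0, 0, 2, 2, 0, 0, 0, 1, 0⟩,
  ⟨8, 8, 0, 5, 7, 0, 0, 0, 2⟩, ⟨2, 6, 8, 3, 2, 7, 7, 8, 0⟩, ⟨1, 3, 5, 5, 6, 1, 2, 8, 1⟩, ⟨5, 4, 0, 2, 6, 5, 1, 3, 5⟩,
  ⟨0, 0, 2, 6, 0, 0, 0, 6, 0⟩, ⟨7, 5, 0, 8, 8, 0, 0, 0, 2⟩, ⟨5, 4, 0, 2, 6, 7, 2, 6, 5⟩, ⟨2, 2, 4, 5, 3, 6, 1, 4, 2⟩,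
  ⟨6, 8, 2, 4, 3, 1, 2, 2, 4⟩, ⟨4, 8, 0, 0, 0, 2, 7, 7, 0⟩, ⟨1, 1, 8, 3, 3, 5, 4, 8, 0⟩, ⟨5, 2, 2, 3, 4, 3, 1, 1, 7⟩,
  ⟨3, 5, 1, 4, 0, 5, 6, 5, 2⟩, ⟨2, 2, 5, 7, 6, 2, 3, 5, 1⟩, ⟨4, 8, 0, 0, 0, 6, 8, 8, 0⟩, ⟨6, 6, 7, 1, 1, 8, 4, 8, 0⟩,
  ⟨8, 5, 0, 6, 1, 5, 6, 1, 7⟩, ⟨0, 0, 2, 4, 5, 0, 8, 5, 0⟩, ⟨2, 2, 8, 3, 3, 7, 4, 8, 0⟩, ⟨8, 4, 0, 2, 2, 5, 1, 1, 5⟩,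
  ⟨6, 5, 1, 5, 3, 6, 1, 6, 4⟩, ⟨8, 3, 2, 6, 3, 5, 2, 7, 3⟩, ⟨2, 3, 8, 1, 7, 1, 8, 3, 2⟩, ⟨7, 4, 0, 3, 1, 8, 6, 2, 8⟩,
  ⟨7, 8, 0, 0, 0, 2, 7, 4, 0⟩, ⟨2, 3, 8, 4, 6, 1, 1, 7, 1⟩, ⟨1, 6, 5, 4, 6, 3, 3, 4, 2⟩, ⟨2, 4, 1, 8, 0, 8, 6, 7, 3⟩,
  ⟨1, 6, 5, 6, 8, 1, 4, 6, 3⟩, ⟨1, 8, 2, 7, 6, 2, 1, 6, 5⟩, ⟨8, 5, 0, 0, 0, 6, 7, 4, 0⟩, ⟨3, 1, 7, 5, 3, 3, 2, 4, 3⟩,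
  ⟨6, 3, 8, 2, 1, 7, 5, 5, 0⟩, ⟨3, 6, 5, 1, 8, 1, 4, 2, 1⟩, ⟨7, 7, 0, 6, 3, 5, 3, 6, 5⟩, ⟨0, 0, 2, 8, 7, 0, 4, 7, 0⟩,
  ⟨6, 0, 0, 0, 6, 0, 0, 0, 2⟩, ⟨7, 7, 0, 6, 3, 7, 6, 3, 5⟩, ⟨1, 6, 8, 4, 6, 2, 1, 7, 2⟩, ⟨5, 8, 0, 6, 2, 7, 1, 6, 8⟩,
  ⟨5, 8, 0, 2, 3, 4, 6, 2, 7⟩, ⟨1, 6, 7, 1, 6, 5, 5, 8, 0⟩, ⟨2, 1, 5, 5, 6, 1, 3, 7, 1⟩, ⟨8, 8, 0, 1, 2, 5, 2, 1, 5⟩,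
  ⟨0, 0, 2, 8, 5, 0, 8, 7, 0⟩, ⟨2, 6, 8, 2, 7, 2, 8, 6, 2⟩, ⟨5, 4, 0, 3, 2, 7, 2, 6, 8⟩, ⟨1, 3, 5, 8, 6, 6, 3, 8, 2⟩,
  ⟨1, 4, 2, 5, 6, 1, 1, 3, 5⟩, ⟨5, 4, 0, 1, 3, 4, 3, 2, 7⟩, ⟨2, 6, 7, 2, 6, 5, 5, 4, 0⟩, ⟨7, 5, 0, 3, 3, 7, 3, 3, 5⟩,
  ⟨0, 0, 1, 8, 8, 0, 7, 5, 0⟩, ⟨1, 3, 7, 2, 6, 7, 5, 4, 0⟩, ⟨2, 8, 1, 5, 3, 6, 2, 2, 4⟩, ⟨1, 1, 8, 4, 3, 1, 6, 8, 2⟩,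
  ⟨4, 8, 0, 6, 6, 8, 3, 3, 8⟩, ⟨5, 5, 0, 0, 0, 2, 4, 8, 0⟩, ⟨2, 2, 5, 3, 4, 3, 5, 2, 2⟩, ⟨3, 5, 1, 1, 3, 8, 5, 6, 3⟩,
  ⟨3, 7, 1, 4, 0, 5, 3, 5, 1⟩, ⟨6, 7, 2, 7, 6, 2, 2, 2, 5⟩, ⟨4, 4, 0, 0, 0, 6, 4, 8, 0⟩, ⟨6, 6, 7, 5, 3, 3, 3, 5, 3⟩,
  ⟨8, 4, 0, 1, 1, 8, 6, 6, 7⟩, ⟨8, 5, 0, 2, 6, 7, 3, 2, 4⟩, ⟨3, 2, 5, 6, 1, 5, 8, 5, 0⟩, ⟨4, 7, 0, 4, 5, 0, 0, 0, 2⟩,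
  ⟨8, 4, 0, 3, 3, 7, 2, 2, 8⟩, ⟨8, 4, 0, 1, 1, 4, 3, 3, 7⟩, ⟨6, 5, 1, 3, 6, 8, 8, 1, 6⟩, ⟨2, 3, 8, 5, 3, 6, 6, 5, 1⟩,
  ⟨1, 5, 6, 6, 3, 5, 8, 3, 2⟩, ⟨4, 6, 1, 1, 7, 1, 2, 3, 8⟩, ⟨3, 1, 4, 3, 1, 8, 7, 4, 0⟩, ⟨5, 8, 0, 0, 0, 2, 7, 8, 0⟩,
  ⟨2, 5, 2, 4, 6, 1, 2, 3, 8⟩, ⟨6, 8, 1, 4, 6, 3, 1, 6, 5⟩, ⟨3, 5, 6, 8, 0, 8, 2, 4, 1⟩, ⟨1, 6, 5, 8, 7, 0, 6, 2, 8⟩,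
  ⟨8, 3, 6, 6, 8, 1, 1, 6, 5⟩, ⟨8, 5, 0, 6, 1, 7, 3, 2, 7⟩, ⟨5, 8, 0, 0, 0, 6, 8, 5, 0⟩, ⟨3, 1, 7, 8, 3, 1, 3, 4, 6⟩,
  ⟨3, 6, 5, 5, 1, 6, 3, 8, 2⟩, ⟨7, 7, 0, 3, 6, 4, 2, 1, 7⟩, ⟨6, 3, 7, 6, 3, 5, 7, 7, 0⟩, ⟨8, 5, 0, 8, 7, 0, 0, 0, 2⟩,
  ⟨0, 0, 1, 0, 6, 0, 6, 0, 0⟩, ⟨7, 7, 0, 2, 1, 5, 3, 6, 8⟩, ⟨3, 6, 7, 6, 3, 7, 7, 7, 0⟩, ⟨5, 8, 0, 0, 0, 1, 5, 4, 0⟩,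
  ⟨2, 3, 4, 6, 2, 7, 5, 8, 0⟩, ⟨3, 1, 5, 2, 3, 4, 5, 8, 0⟩, ⟨6, 5, 2, 5, 6, 1, 2, 1, 5⟩, ⟨8, 8, 0, 2, 1, 4, 6, 3, 7⟩,
  ⟨1, 2, 7, 1, 2, 5, 8, 8, 0⟩, ⟨4, 5, 0, 8, 5, 0, 0, 0, 2⟩, ⟨2, 6, 8, 7, 3, 3, 6, 7, 1⟩, ⟨1, 3, 4, 3, 2, 7, 5, 4, 0⟩,
  ⟨6, 4, 1, 8, 6, 6, 1, 3, 5⟩, ⟨1, 4, 2, 3, 3, 7, 8, 2, 1⟩, ⟨6, 1, 5, 1, 3, 4, 5, 4, 0⟩, ⟨7, 5, 0, 1, 1, 5, 6, 6, 8⟩,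
  ⟨6, 6, 7, 3, 3, 7, 7, 5, 0⟩, ⟨5, 7, 0, 8, 8, 0, 0, 0, 1⟩, ⟨7, 8, 0, 2, 6, 7, 1, 3, 7⟩, ⟨2, 8, 1, 8, 0, 8, 3, 7, 6⟩,
  ⟨3, 4, 1, 4, 3, 1, 1, 1, 8⟩, ⟨6, 6, 4, 6, 6, 8, 4, 8, 0⟩, ⟨8, 4, 0, 0, 0, 2, 5, 5, 0⟩, ⟨2, 2, 5, 8, 4, 0, 2, 2, 7⟩,
  ⟨7, 3, 6, 1, 3, 8, 3, 5, 1⟩, ⟨3, 7, 1, 5, 3, 3, 1, 6, 8⟩, ⟨6, 7, 2, 4, 0, 5, 3, 7, 1⟩, ⟨8, 4, 0, 0, 0, 6, 4, 4, 0⟩,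
  ⟨6, 6, 7, 6, 8, 1, 5, 2, 6⟩, ⟨6, 7, 6, 5, 3, 3, 6, 6, 7⟩, ⟨3, 3, 5, 1, 1, 8, 8, 4, 0⟩, ⟨6, 1, 8, 2, 6, 7, 8, 5, 0⟩,
  ⟨4, 7, 0, 6, 1, 7, 6, 1, 5⟩, ⟨8, 4, 0, 0, 0, 3, 8, 8, 0⟩, ⟨6, 6, 5, 1, 1, 4, 8, 4, 0⟩, ⟨4, 2, 3, 3, 6, 8, 6, 5, 1⟩,
  ⟨4, 6, 1, 6, 3, 5, 1, 5, 6⟩, ⟨4, 6, 1, 2, 7, 3, 6, 3, 5⟩, ⟨3, 1, 4, 2, 5, 3, 8, 3, 3⟩, ⟨5, 8, 0, 3, 1, 8, 3, 1, 4⟩,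
  ⟨5, 8, 0, 6, 2, 8, 3, 1, 8⟩, ⟨1, 6, 4, 4, 6, 1, 2, 5, 2⟩, ⟨6, 8, 1, 2, 2, 8, 4, 3, 2⟩, ⟨3, 1, 4, 8, 7, 0, 1, 6, 5⟩,
  ⟨2, 3, 7, 6, 8, 1, 8, 3, 6⟩, ⟨6, 1, 5, 6, 1, 7, 8, 5, 0⟩, ⟨4, 7, 0, 0, 0, 6, 5, 8, 0⟩, ⟨6, 8, 3, 8, 3, 1, 3, 1, 7⟩,
  ⟨8, 5, 0, 3, 2, 7, 3, 2, 5⟩, ⟨3, 0, 0, 0, 6, 0, 0, 0, 1⟩, ⟨6, 3, 4, 2, 1, 5, 7, 7, 0⟩, ⟨5, 8, 0, 3, 1, 4, 6, 2, 4⟩,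
  ⟨1, 2, 7, 5, 6, 1, 6, 5, 2⟩, ⟨4, 5, 0, 3, 1, 7, 3, 1, 5⟩, ⟨3, 5, 2, 7, 3, 3, 2, 6, 8⟩, ⟨1, 3, 4, 8, 6, 2, 2, 7, 2⟩,
  ⟨6, 1, 5, 7, 3, 6, 1, 4, 6⟩, ⟨3, 3, 4, 1, 1, 5, 7, 5, 0⟩, ⟨2, 6, 5, 2, 6, 7, 7, 8, 0⟩, ⟨6, 5, 3, 8, 0, 8, 2, 8, 1⟩,
  ⟨3, 4, 1, 2, 7, 3, 4, 0, 5⟩, ⟨6, 6, 4, 8, 6, 3, 6, 8, 3⟩, ⟨8, 4, 0, 3, 3, 8, 6, 6, 8⟩, ⟨7, 7, 0, 0, 0, 2, 8, 4, 0⟩,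
  ⟨6, 7, 2, 1, 3, 8, 7, 3, 6⟩, ⟨3, 7, 1, 3, 6, 4, 8, 1, 3⟩, ⟨6, 5, 2, 4, 0, 5, 6, 7, 2⟩, ⟨3, 3, 5, 5, 3, 3, 6, 7, 6⟩,
  ⟨3, 3, 5, 3, 5, 3, 5, 3, 3⟩, ⟨6, 1, 8, 7, 1, 2, 6, 4, 2⟩, ⟨4, 7, 0, 2, 6, 5, 3, 2, 8⟩, ⟨3, 2, 7, 6, 1, 7, 4, 7, 0⟩,
  ⟨6, 6, 5, 3, 5, 6, 5, 3, 6⟩, ⟨4, 8, 0, 1, 1, 4, 6, 6, 5⟩, ⟨3, 7, 2, 3, 6, 8, 4, 2, 3⟩, ⟨3, 1, 4, 7, 6, 1, 6, 5, 6⟩,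
  ⟨5, 8, 0, 1, 6, 4, 6, 2, 5⟩, ⟨6, 2, 7, 3, 1, 7, 4, 5, 0⟩, ⟨1, 3, 4, 7, 3, 3, 3, 5, 2⟩, ⟨1, 5, 1, 8, 6, 2, 1, 3, 4⟩,
  ⟨3, 4, 6, 8, 6, 3, 6, 6, 4⟩, ⟨3, 7, 3, 7, 6, 1, 3, 1, 4⟩, ⟨2, 6, 8, 8, 6, 2, 1, 5, 1⟩, ⟨6, 2, 8, 7, 6, 1, 3, 7, 3⟩]

def colTree : List (ℕ × ℕ) := [
  (0, 0), (1, 0), (0, 1), (1, 1), (0, 2), (1, 2), (1, 3),
  (1, 4), (0, 5), (1, 5), (0, 6), (0, 7), (1, 7), (0, 8),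
  (1, 8), (0, 9), (1, 9), (0, 10), (1, 10), (0, 11), (1, 11),
  (0, 12), (1, 12), (1, 13), (0, 14), (1, 14), (0, 15), (1, 15),
  (0, 16), (1, 17), (0, 18), (1, 18), (1, 19), (0, 20), (1, 20),
  (0, 21), (0, 22), (0, 23), (1, 23), (0, 24), (1, 24), (0, 25),
  (1, 25), (0, 27), (1, 27), (0, 28), (1, 28), (0, 29), (1, 29),
  (0, 30), (1, 30), (0, 31), (1, 31), (0, 32), (1, 32), (0, 33),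
  (1, 33), (0, 34), (1, 34), (1, 35), (0, 36), (1, 36), (0, 37),
  (1, 37), (0, 38), (1, 38), (1, 39), (0, 40), (1, 40), (0, 41),
  (1, 41), (0, 43), (1, 43), (0, 44), (1, 44), (1, 45), (1, 46),
  (0, 47), (1, 47), (0, 48), (1, 48), (1, 49), (0, 50), (1, 50),
  (0, 51), (1, 51), (0, 52), (0, 53), (1, 53), (0, 54), (1, 54),
  (1, 55), (0, 56), (1, 56), (0, 57), (1, 57), (0, 59), (1, 59),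
  (1, 60), (1, 61), (1, 62), (0, 63), (1, 63), (0, 64), (1, 64),
  (0, 65), (1, 66), (0, 67), (0, 68), (1, 68), (1, 69), (0, 70),
  (1, 71), (0, 72), (1, 72), (0, 73), (1, 73), (0, 74), (0, 75),
  (1, 75), (0, 76), (1, 76), (0, 78), (1, 78), (0, 79), (0, 81),
  (1, 81), (0, 82), (1, 82), (0, 83), (1, 83), (0, 85), (1, 85),
  (1, 86), (1, 87), (1, 88), (0, 89), (1, 89), (1, 91), (0, 92),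
  (1, 92), (1, 93), (1, 94), (0, 95), (1, 95), (0, 96), (1, 96),
  (1, 97), (1, 98), (0, 99), (0, 100), (1, 100), (1, 101), (1, 102),
  (1, 103), (1, 104), (1, 105), (1, 106), (1, 107), (0, 108), (1, 108),
  (0, 110), (1, 110), (0, 111), (0, 113), (0, 114), (1, 114), (1, 115),
  (1, 116), (0, 117), (1, 117), (0, 119), (1, 119), (1, 120), (1, 122),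
  (0, 123), (1, 123), (1, 124), (0, 125), (1, 126), (1, 127), (0, 128),
  (1, 129), (0, 131), (1, 131), (1, 132), (1, 133), (0, 134), (1, 135),
  (1, 136), (1, 137), (0, 138), (1, 139), (0, 140), (1, 140), (1, 142),
  (0, 143), (1, 143), (1, 144), (1, 145), (0, 147), (0, 149), (1, 149),
  (1, 150), (1, 152), (0, 153), (0, 154), (1, 154), (0, 155), (1, 156),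
  (0, 157), (1, 159), (1, 160), (1, 161), (1, 162), (1, 163), (0, 167),
  (1, 168), (1, 169), (0, 171), (1, 174), (0, 177), (1, 178), (0, 179),
  (0, 182), (1, 183), (1, 186), (1, 187), (0, 188), (0, 189), (0, 190),
  (1, 190), (1, 192), (0, 193), (1, 194), (1, 197), (0, 198), (0, 199),
  (0, 200), (1, 200), (0, 202), (1, 202), (1, 203), (0, 206), (0, 207),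
  (1, 221), (1, 222), (1, 223), (1, 229), (1, 243), (1, 247), (1, 249)]

def stab : List M9 := [
  ⟨1, 0, 0, 0, 1, 0, 0, 0, 1⟩, ⟨1, 0, 0, 0, 4, 5, 0, 4, 7⟩, ⟨1, 0, 0, 0, 7, 7, 0, 8, 4⟩, ⟨1, 0, 0, 0, 4, 7, 0, 8, 7⟩,
  ⟨1, 0, 0, 0, 8, 8, 0, 7, 5⟩, ⟨1, 0, 0, 0, 0, 6, 0, 6, 0⟩, ⟨1, 0, 0, 0, 8, 4, 0, 5, 5⟩, ⟨1, 0, 0, 0, 0, 1, 0, 2, 0⟩,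
  ⟨1, 0, 0, 0, 7, 5, 0, 4, 4⟩, ⟨1, 0, 0, 0, 6, 0, 0, 0, 3⟩, ⟨1, 0, 0, 0, 8, 7, 0, 8, 5⟩, ⟨1, 0, 0, 0, 7, 4, 0, 5, 4⟩,
  ⟨1, 0, 0, 0, 0, 2, 0, 1, 0⟩, ⟨1, 0, 0, 0, 7, 8, 0, 7, 4⟩, ⟨1, 0, 0, 0, 5, 5, 0, 4, 8⟩, ⟨1, 0, 0, 0, 5, 7, 0, 8, 8⟩,
  ⟨1, 0, 0, 0, 5, 8, 0, 7, 8⟩, ⟨1, 0, 0, 0, 2, 0, 0, 0, 2⟩, ⟨1, 0, 0, 0, 0, 3, 0, 3, 0⟩, ⟨1, 0, 0, 0, 5, 4, 0, 5, 8⟩,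
  ⟨1, 0, 0, 0, 4, 8, 0, 7, 7⟩, ⟨1, 0, 0, 0, 4, 4, 0, 5, 7⟩, ⟨1, 0, 0, 0, 8, 5, 0, 4, 5⟩, ⟨1, 0, 0, 0, 3, 0, 0, 0, 6⟩]

def stabTree : List (ℕ × ℕ × ℕ × ℕ) := [
  (0, 0, 0, 0), (0, 0, 0, 0), (1, 1, 1, 0), (0, 0, 3, 3), (1, 1, 3, 0),
  (1, 2, 3, 0), (1, 3, 1, 0), (1, 3, 2, 0), (1, 3, 3, 0), (1, 3, 4, 0),
  (1, 3, 5, 0), (1, 1, 7, 0), (1, 1, 8, 0), (1, 1, 9, 0), (1, 1, 10, 0),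
  (1, 2, 7, 0), (1, 2, 8, 0), (1, 2, 10, 0), (1, 3, 6, 0), (1, 3, 7, 0),
  (1, 3, 10, 0), (1, 3, 16, 0), (1, 3, 17, 0), (1, 4, 10, 0)]

def colPos : ℕ := 106217655136589251908371608364628481618778354621926478339940945123355555711752216750233541888913113312304911710824306600663956093733557880825024302803110219253212151019353742041236418395724315410666022641284932755439774923804493451150020349096387387619645897679865562024085466604873419928908776147122263283545489450804791824433681838277054278356974866015520454019586464561498721221696778209220423767862829981060014316332359602614835613764207636365494833977201629177517897290445199264957654904575705497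69082266746432242239092562554010916819985789945017236209187515597932873691005946316481913532058544846495624914410824126097850032598147236733729265520896473079894073563485334476423319074974320549157751378827694701042738142032774943578107419691378695362996408854028960730172653531784154664240348101555250161641208221605367337235247282752712593382421582383029203405388239990173696493066339889641259748638623833948944639456104444547673042960291613365251286868739576448630278170068732593445693744464272205758424380809271141298879604297037476288083164288001830404942138141625276915090914282629839031047157276118696757045876636995849109737007538067859527391404493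7663731225173409344454618069128856788043493246041419582045860246040026647683112912209211132481925441262737566389417942646375315416850536380909898393196837743166450331779960883185247389433462353113132301216047390797824389009600812615906119135151157761994069001544607471095688628124976149471926992189740510402429009440565333008093794407564447051705521177914568545613510182642586817210791303405939912805240743620269487830138760568662162793250351223783115076433949494795820121615066669213056633037916006177883627948870478501386616861356505200967454116334469751788178972418311431847936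

def genWord : ℕ × ℕ := (9, 38)

end Cfsg.Agent.Spectra.DegreeTwin
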