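import Cfsg.Agent.Spectra.DegreeTwin.Checks
import Cfsg.Agent.Spectra.DegreeTwin.Complete

/-!
# Three irreducible characters of `SU(3,3)` from the certificates
-/

set_option autoImplicit false

namespace Cfsg.Agent.Spectra.DegreeTwin

open Cfsg.Agent.Spectra

/-- A faithful matrix model whose image is the whole special unitary group. -/
structure Model (G : Type*) [Group G] where
  rho : G →* Matrix (Fin 3) (Fin 3) Nine
  inj : Function.Injective rho
  lift : ∀ A, UnitOne A → ∃ g, rho g = A
  card : Nat.card G = 6048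

namespace Model

variable {G : Type*} [Group G] (M : Model G)

def cd (g : G) : M9 := ofMat (M.rho g)

theorem cd_one : M.cd 1 = one9 := by rw [cd, map_one, ofMat_one]

theorem cd_mul (g h : G) : M.cd (g * h) = (M.cd g).mul (M.cd h) := by
  rw [cd, map_mul, ofMat_mul]; rfl

theorem cd_inj : Function.Injective M.cd := ofMat_injective.comp M.inj

theorem exists_of_unit {m : M9} (h : m.unit = true) : ∃ g, M.cd g = m := by
  obtain ⟨g, hg⟩ := M.lift _ (unitOne_of_unit h)
  refine ⟨g, ?_⟩
  rw [cd, hg]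
  simp only [M9.unit, Bool.and_eq_true] at h
  exact ofMat_toMat h.1

theorem exists_gens : ∀ s < 2, ∃ g, M.cd g = at9 gens s := fun s hs =>
  M.exists_of_unit (of_allBelow gens_check s hs)

/-- The subgroup generated by the two generators. -/
def two : Subgroup G := Subgroup.closure {g | ∃ s < 2, M.cd g = at9 gens s}

theorem exists_colTrans : ∀ i < 252, ∃ g ∈ M.two, M.cd g = at9 colTrans i := by
  intro i
  induction i using Nat.strong_induction_on with
  | _ i ih =>
    intro hi
    have hc := colTrans_check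
    simp only [Bool.and_eq_true, M9.eqb_iff] at hc
    have h := of_allBelow hc.2 i hi
    simp only [Bool.and_eq_true, Bool.or_eq_true, M9.eqb_iff, beq_iff_eq, Nat.blt_eq] at h
    rcases h.2 with h0 | ⟨⟨hj, hs⟩, he⟩
    · exact ⟨1, M.two.one_mem, by rw [M.cd_one, h0, hc.1]⟩
    · obtain ⟨x, hx, hxc⟩ := ih _ hj (hj.trans hi)
      obtain ⟨s, hsc⟩ := M.exists_gens _ hs
      exact ⟨s * x, M.two.mul_mem (Subgroup.subset_closure ⟨_, hs, hsc⟩) hx,
        by rw [M.cd_mul, hsc, hxc, he]⟩

theorem exists_stab : ∀ k < 24, ∃ g ∈ M.two, M.cd g = at9 stab k := by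
  intro k
  induction k using Nat.strong_induction_on with
  | _ k ih =>
    intro hk
    have hc := stab_check
    simp only [Bool.and_eq_true, M9.eqb_iff] at hc
    have h := of_allBelow hc.2 k hk
    simp only [Bool.and_eq_true, Bool.or_eq_true, beq_iff_eq] at h
    rcases h.2 with h0 | h1
    · exact ⟨1, M.two.one_mem, by rw [M.cd_one, h0, hc.1]⟩
    unfold stabStep at h1
    split at h1
    · simp only [Bool.and_eq_true, M9.eqb_iff, Nat.blt_eq] at h1
      obtain ⟨⟨⟨hs, hi⟩, hj⟩, he⟩ := h1
      obtain ⟨s, hsc⟩ := M.exists_gens _ hs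
      obtain ⟨u, hu, huc⟩ := M.exists_colTrans _ hi
      obtain ⟨v, hv, hvc⟩ := M.exists_colTrans _ hj
      refine ⟨v⁻¹ * (s * u), M.two.mul_mem (M.two.inv_mem hv)
        (M.two.mul_mem (Subgroup.subset_closure ⟨_, hs, hsc⟩) hu), ?_⟩
      have hT := ofMat_toMat h.1.1.1
      have e1 : M.rho v * toMat (at9 stab k) = M.rho (s * u) := ofMat_injective (by
        rw [ofMat_mul, hT]
        show (M.cd v).mul _ = M.cd (s * u)
        rw [hvc, he, M.cd_mul, hsc, huc])
      rw [cd, map_mul, ← e1, ← mul_assoc, ← map_mul, inv_mul_cancel, map_one, one_mul, hT]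
    · simp only [Bool.and_eq_true, M9.eqb_iff, Nat.blt_eq] at h1
      obtain ⟨⟨hp, hq⟩, he⟩ := h1
      obtain ⟨x, hx, hxc⟩ := ih _ hp (hp.trans hk)
      obtain ⟨y, hy, hyc⟩ := ih _ hq (hq.trans hk)
      exact ⟨x * y, M.two.mul_mem hx hy, by rw [M.cd_mul, hxc, hyc, he]⟩

theorem two_eq_top : M.two = ⊤ := by
  classical
  have hfin : Finite G := Nat.finite_of_card_ne_zero (by rw [M.card]; norm_num)
  choose u hu huc using M.exists_colTrans
  choose t ht htc using M.exists_stab
  have hcol : ∀ (g : G) (k : ℕ) (hk : k < 24),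
      firstCol (M.cd (g * t k hk)) = firstCol (M.cd g) := by
    intro g k hk
    have hc := stab_check
    simp only [Bool.and_eq_true] at hc
    have h := of_allBelow hc.2 k hk
    simp only [Bool.and_eq_true, Bool.or_eq_true, beq_iff_eq] at h
    have h00 := h.1.1.2.1.1
    have h10 := h.1.1.2.1.2
    have h20 := h.1.1.2.2
    rw [← htc k hk] at h00 h10 h20
    change enc (M.rho (t k hk) 0 0) = 1 at h00
    change enc (M.rho (t k hk) 1 0) = 0 at h10
    change enc (M.rho (t k hk) 2 0) = 0 at h20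
    have f0 : M.rho (t k hk) 0 0 = 1 := enc_injective (h00.trans (by decide +kernel))
    have f1 : M.rho (t k hk) 1 0 = 0 := enc_injective (h10.trans (by decide +kernel))
    have f2 : M.rho (t k hk) 2 0 = 0 := enc_injective (h20.trans (by decide +kernel))
    simp only [firstCol, cd, ofMat, map_mul, Matrix.mul_apply, Fin.sum_univ_three, f0, f1, f2,
      mul_one, mul_zero, add_zero]
  have hinj : Function.Injective (fun p : Fin 252 × Fin 24 =>
      (⟨u p.1 p.1.2 * t p.2 p.2.2, M.two.mul_mem (hu _ _) (ht _ _)⟩ : M.two)) := by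
    rintro ⟨i, k⟩ ⟨i', k'⟩ h
    have h' : u i i.2 * t k k.2 = u i' i'.2 * t k' k'.2 := congrArg Subtype.val h
    have e := congrArg (fun g => firstCol (M.cd g)) h'
    simp only [hcol, huc] at e
    have hc := colTrans_check
    simp only [Bool.and_eq_true] at hc
    have a := of_allBelow hc.2 i i.2
    have b := of_allBelow hc.2 i' i'.2
    simp only [Bool.and_eq_true, beq_iff_eq] at a b
    have hi : i = i' := Fin.ext (by rw [← a.1, ← b.1, e])
    subst hi
    have hk : at9 stab k = at9 stab k' := by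
      rw [← htc k k.2, ← htc k' k'.2, mul_left_cancel h']
    have hs := stab_check
    simp only [Bool.and_eq_true] at hs
    have c := of_allBelow hs.2 k k.2
    simp only [Bool.and_eq_true] at c
    have d := of_allBelow c.1.2 k' k'.2
    simp only [Bool.or_eq_true, Bool.not_eq_true', beq_iff_eq, (M9.eqb_iff _ _).mpr hk] at d
    simp only [Prod.mk.injEq, true_and]
    exact Fin.ext (d.resolve_left (by simp)).symm
  refine Subgroup.eq_top_of_le_card _ ?_
  have := Nat.card_le_card_of_injective _ hinj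
  rw [Nat.card_prod, Nat.card_fin, Nat.card_fin] at this
  rw [M.card]
  exact this

/-- The elements whose code is in a list. -/
def listed (n : ℕ) (K : List M9) : Set G := {g | ∃ i < n, M.cd g = at9 K i}

theorem class_eq {n : ℕ} {K : List M9} {next : ℕ → List ℕ} {par : List (ℕ × ℕ)}
    (hK : classCheck n K next par = true) {z : G} (hn : 0 < n) (hz : M.cd z = at9 K 0) :
    (∀ x, IsConj z x ↔ x ∈ M.listed n K) ∧ (∀ i < n, ∃ g, M.cd g = at9 K i) := by
  classical
  have hfin : Finite G := Nat.finite_of_card_ne_zero (by rw [M.card]; norm_num)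
  simp only [classCheck, Bool.and_eq_true] at hK
  have hrow := of_allBelow hK.2
  have hex : ∀ i < n, ∃ g, M.cd g = at9 K i := fun i hi => by
    have := hrow i hi
    simp only [Bool.and_eq_true] at this
    exact M.exists_of_unit this.1.1.1
  have hstep : ∀ i < n, ∀ s < 2, ∀ g x, M.cd g = at9 gens s → M.cd x = at9 K i →
      (next s).getD i 0 < n ∧ M.cd (g * x * g⁻¹) = at9 K ((next s).getD i 0) := by
    intro i hi s hs g x hg hx
    have h := hrow i hi
    simp only [Bool.and_eq_true] at h
    have h2 := of_allBelow h.1.1.2 s hs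
    simp only [Bool.and_eq_true, M9.eqb_iff, Nat.blt_eq] at h2
    obtain ⟨y, hy⟩ := hex _ h2.1
    have e : g * x = y * g := M.cd_inj (by rw [M.cd_mul, M.cd_mul, hg, hx, hy, h2.2])
    exact ⟨h2.1, by rw [e, mul_inv_cancel_right, hy]⟩
  have hclosed : ∀ g : G, ∀ x ∈ M.listed n K, g * x * g⁻¹ ∈ M.listed n K := by
    intro g
    have hg : g ∈ (⊤ : Subgroup G) := trivial
    rw [← M.two_eq_top, two, ← Subgroup.mem_toSubmonoid,
      Subgroup.closure_toSubmonoid_of_finite] at hg
    induction hg using Submonoid.closure_induction with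
    | mem g hg =>
      rintro x ⟨i, hi, hx⟩
      obtain ⟨s, hs, hsc⟩ := hg
      exact ⟨_, (hstep i hi s hs g x hsc hx).1, (hstep i hi s hs g x hsc hx).2⟩
    | one => simp
    | mul a b _ _ iha ihb =>
      intro x hx
      have := iha _ (ihb _ hx)
      simpa [mul_assoc] using this
  refine ⟨fun x => ⟨fun hx => ?_, ?_⟩, hex⟩
  · obtain ⟨g, rfl⟩ := isConj_iff.mp hx
    exact hclosed g z ⟨0, hn, hz⟩
  · rintro ⟨i, hi, hx⟩
    induction i using Nat.strong_induction_on generalizing x with
    | _ i ih =>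
      have h := hrow i hi
      simp only [Bool.and_eq_true, Bool.or_eq_true, beq_iff_eq, Nat.blt_eq] at h
      rcases h.2 with h0 | ⟨⟨hj, hs⟩, he⟩
      · subst h0
        rw [M.cd_inj (hx.trans hz.symm)]
      · obtain ⟨y, hy⟩ := hex _ (hj.trans hi)
        obtain ⟨s, hsc⟩ := M.exists_gens _ hs
        have hh := (hstep _ (hj.trans hi) _ hs s y hsc hy).2
        rw [he] at hh
        rw [M.cd_inj (hx.trans hh.symm)]
        exact (ih _ hj y (hj.trans hi) hy).trans (isConj_iff.mpr ⟨s, rfl⟩)

theorem exists_rep : ∀ g : G, ∃ r < 14, ∃ x, M.cd x = at9 reps r ∧ IsConj x g := by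
  classical
  obtain ⟨z, hz⟩ := M.exists_gens 0 (by norm_num)
  have hh : at9 cls56 0 = at9 gens 0 := (M9.eqb_iff _ _).mp head56
  obtain ⟨hcls, hex⟩ := M.class_eq check56 (z := z) (by norm_num) (hz.trans hh.symm)
  have hrep : ∀ r < 14, ∃ x, M.cd x = at9 reps r := fun r hr => by
    have h := reps_check
    simp only [Bool.and_eq_true] at h
    exact M.exists_of_unit (of_allBelow h.2 r hr)
  have hwit : ∀ w < 271, ∃ x, M.cd x = at9 wits w := fun w hw =>
    M.exists_of_unit (of_allBelow wits_check w hw)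
  have hsteps : ∀ r < 14, stepCheck r = true := by
    intro r hr
    rcases Nat.lt_or_ge r 7 with h | h
    · exact of_allBelow steps_check_low r h
    · have := of_allBelow steps_check_high (r - 7) (by omega)
      simpa [Nat.sub_add_cancel h] using this
  let U : Set G := {g | ∃ r < 14, ∃ x, M.cd x = at9 reps r ∧ IsConj x g}
  have hU : ∀ g ∈ U, ∀ k ∈ M.listed 56 cls56, g * k ∈ U := by
    rintro g ⟨r, hr, x, hx, hc⟩ k hk
    obtain ⟨w, rfl⟩ := isConj_iff.mp hc
    have hk' : w⁻¹ * k * w ∈ M.listed 56 cls56 := (hcls _).mp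
      (((hcls k).mpr hk).trans (isConj_iff.mpr ⟨w⁻¹, by group⟩))
    obtain ⟨i, hi, hk'c⟩ := hk'
    have h := of_allBelow (hsteps r hr) i hi
    simp only [Bool.and_eq_true, M9.eqb_iff, Nat.blt_eq] at h
    obtain ⟨v, hv⟩ := hwit _ h.1.2
    obtain ⟨y, hy⟩ := hrep _ h.1.1
    have e : x * (w⁻¹ * k * w) * v = v * y :=
      M.cd_inj (by rw [M.cd_mul (x * (w⁻¹ * k * w)) v, M.cd_mul x, M.cd_mul v y, hx, hk'c, hv, hy, h.2])
    refine ⟨_, h.1.1, y, hy, isConj_iff.mpr ⟨w * v, ?_⟩⟩
    have e' : x * (w⁻¹ * k * w) = v * y * v⁻¹ := eq_mul_inv_of_mul_eq e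
    calc w * v * y * (w * v)⁻¹ = w * (v * y * v⁻¹) * w⁻¹ := by group
      _ = w * x * w⁻¹ * k := by rw [← e']; group
  have hfin : Finite G := Nat.finite_of_card_ne_zero (by rw [M.card]; norm_num)
  intro g
  have hg : g ∈ (⊤ : Subgroup G) := trivial
  rw [← M.two_eq_top, two, ← Subgroup.mem_toSubmonoid,
    Subgroup.closure_toSubmonoid_of_finite] at hg
  suffices ∀ u ∈ U, u * g ∈ U by
    obtain ⟨x, hx⟩ := hrep 0 (by norm_num)
    have h := reps_check
    simp only [Bool.and_eq_true, M9.eqb_iff] at h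
    have hx1 : x = 1 := M.cd_inj (hx.trans (h.1.trans M.cd_one.symm))
    simpa [U] using this 1 ⟨0, by norm_num, 1, hx1 ▸ hx, IsConj.refl _⟩
  induction hg using Submonoid.closure_induction with
  | mem a ha =>
    intro u hu
    obtain ⟨s, hs, hsc⟩ := ha
    rcases Nat.lt_or_ge s 1 with h | h
    · obtain rfl : s = 0 := by omega
      exact hU u hu a ⟨0, by norm_num, hsc.trans hh.symm⟩
    · obtain rfl : s = 1 := by omega
      have hw := word_check
      simp only [Bool.and_eq_true, M9.eqb_iff, Nat.blt_eq] at hw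
      obtain ⟨p, hp⟩ := hex _ hw.1.1
      obtain ⟨q, hq⟩ := hex _ hw.1.2
      have : a = p * q := M.cd_inj (by rw [M.cd_mul, hp, hq, hsc, hw.2])
      rw [this, ← mul_assoc]
      exact hU _ (hU u hu p ⟨_, hw.1.1, hp⟩) q ⟨_, hw.1.2, hq⟩
  | one => simp
  | mul a b _ _ iha ihb =>
    intro u hu
    rw [← mul_assoc]
    exact ihb _ (iha _ hu)

end Model

end Cfsg.Agent.Spectra.DegreeTwin
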